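import Cfsg.Agent.H18.AltBlock.Twist
import Cfsg.Agent.H18.SymBlock.Bound

/-!
# Counting configurations: self-conjugate ones, weight one, and two runners
-/

set_option autoImplicit false
set_option linter.unusedSectionVars false

open Finset H18.SymBlock

namespace H18.AltBlock

variable {p : ℕ}

theorem sum_add_wt (hp : 0 < p) {S T : Finset ℕ} (h : S.val.map (· % p) = T.val.map (· % p)) :
    ∑ x ∈ S, x + p * wt p T = ∑ x ∈ T, x + p * wt p S := by
  have key : ∀ A : Finset ℕ, ∑ x ∈ A, below p A x ≤ ∑ x ∈ A, x / p ∧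
      wt p A + ∑ x ∈ A, below p A x = ∑ x ∈ A, x / p ∧
      ∑ x ∈ A, x = ∑ x ∈ A, x % p + p * ∑ x ∈ A, x / p := by
    intro A
    refine ⟨Finset.sum_le_sum fun x _ => below_le hp A x, ?_, ?_⟩
    · rw [wt, ← Finset.sum_add_distrib]
      exact Finset.sum_congr rfl fun x _ => Nat.sub_add_cancel (below_le hp A x)
    · rw [Finset.mul_sum, ← Finset.sum_add_distrib]
      exact Finset.sum_congr rfl fun x _ => (Nat.mod_add_div x p).symm
  have two : ∀ A : Finset ℕ, 2 * ∑ x ∈ A, below p A x =
      ((A.val.map (· % p)).map fun a => Multiset.count a (A.val.map (· % p)) - 1).sum := by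
    intro A
    classical
    have h1 : ∀ x ∈ A, below p A x + #{y ∈ A | y % p = x % p ∧ x < y} =
        Multiset.count (x % p) (A.val.map (· % p)) - 1 := by
      intro x hx
      rw [below, Multiset.count_map, ← Finset.card_union_of_disjoint (by
        rw [Finset.disjoint_filter]; intro y _ h1 h2; omega),
        show (A.filter fun y => y % p = x % p ∧ y < x) ∪ (A.filter fun y => y % p = x % p ∧ x < y) =
          (A.filter fun y => x % p = y % p).erase x by
            ext y
            simp only [Finset.mem_union, Finset.mem_filter, Finset.mem_erase]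
            constructor
            · rintro (⟨hy, he, hl⟩ | ⟨hy, he, hl⟩) <;> exact ⟨by omega, hy, he.symm⟩
            · rintro ⟨hne, hy, he⟩
              rcases lt_or_gt_of_ne hne with hl | hl
              · exact Or.inl ⟨hy, he.symm, hl⟩
              · exact Or.inr ⟨hy, he.symm, hl⟩,
        Finset.card_erase_of_mem (by simp [hx])]
      rfl
    have h2 : ∑ x ∈ A, #{y ∈ A | y % p = x % p ∧ x < y} = ∑ x ∈ A, below p A x := by
      simp only [below, Finset.card_filter]
      rw [Finset.sum_comm]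
      refine Finset.sum_congr rfl fun x _ => Finset.sum_congr rfl fun y _ => ?_
      exact if_congr (and_congr_left' eq_comm) rfl rfl
    rw [Multiset.map_map, show (Multiset.map ((fun a => Multiset.count a (A.val.map (· % p)) - 1) ∘ fun x => x % p) A.val).sum =
      ∑ x ∈ A, (Multiset.count (x % p) (A.val.map (· % p)) - 1) from rfl,
      ← Finset.sum_congr rfl h1, Finset.sum_add_distrib, h2, two_mul]
  obtain ⟨-, hS2, hS3⟩ := key S
  obtain ⟨-, hT2, hT3⟩ := key T
  have e1 := two S
  have e2 := two T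
  rw [h] at e1
  have e3 : ∑ x ∈ S, x % p = ∑ x ∈ T, x % p := by
    rw [Finset.sum_eq_multiset_sum, Finset.sum_eq_multiset_sum, h]
  have e4 : ∑ x ∈ S, below p S x = ∑ x ∈ T, below p T x := by omega
  rw [hS3, hT3, ← hS2, ← hT2, e3, e4, Nat.mul_add, Nat.mul_add]
  omega

/-- A bead with a gap just below it. -/
theorem exists_gap_bead (hp : 0 < p) {S : Finset ℕ} {x : ℕ} (hx : x ∈ S)
    (hlvl : x / p - below p S x ≠ 0) :
    ∃ z ∈ S, z % p = x % p ∧ p ≤ z ∧ z - p ∉ S := by
  by_contra hno
  simp only [not_exists, not_and, not_not] at hno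
  have h : ∀ k, k ≤ x / p → x % p + p * (x / p - k) ∈ S := by
    intro k
    induction k with
    | zero => intro _; rw [Nat.sub_zero, Nat.mod_add_div]; exact hx
    | succ k ih =>
      intro hk
      have hpos : p * 1 ≤ p * (x / p - k) := Nat.mul_le_mul_left p (by omega)
      have h1 := hno _ (ih (by omega)) (by rw [Nat.add_mul_mod_self_left, Nat.mod_mod]) (by omega)
      rw [show x / p - k = x / p - (k + 1) + 1 by omega, Nat.mul_add, mul_one] at h1
      rwa [show x % p + (p * (x / p - (k + 1)) + p) - p = x % p + p * (x / p - (k + 1)) by omega] at h1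
  refine hlvl (Nat.sub_eq_zero_of_le ((below_eq_iff hp S x).2 fun q hq => ?_).ge)
  have := h (x / p - q) (by omega)
  rwa [show x / p - (x / p - q) = q by omega] at this

theorem level_ne_zero_of_gap (hp : 0 < p) {S : Finset ℕ} {z : ℕ} (hz : p ≤ z) (hgap : z - p ∉ S) :
    z / p - below p S z ≠ 0 := by
  intro h
  have h1 := (below_eq_iff hp S z).1 (le_antisymm (below_le hp S z) (by omega))
  have hd : 1 ≤ z / p := (Nat.one_le_div_iff hp).2 hz
  have h2 := h1 (z / p - 1) (by omega)
  apply hgap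
  have h3 := Nat.mod_add_div z p
  rw [Nat.mul_sub, mul_one] at h2
  have h4 : p * 1 ≤ p * (z / p) := Nat.mul_le_mul_left p hd
  rwa [show z % p + (p * (z / p) - p) = z - p by omega] at h2

/-- The mirror residue. -/
def mr (p M r : ℕ) : ℕ := if r ≤ (M - 1) % p then (M - 1) % p - r else (M - 1) % p + p - r

theorem mr_lt (hp : 0 < p) (M : ℕ) {r : ℕ} (hr : r < p) : mr p M r < p := by
  have := Nat.mod_lt (M - 1) hp
  rw [mr]
  split_ifs <;> omega

theorem mr_mr (hp : 0 < p) (M : ℕ) {r : ℕ} (hr : r < p) : mr p M (mr p M r) = r := by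
  have := Nat.mod_lt (M - 1) hp
  simp only [mr]
  split_ifs <;> omega

theorem mirror_mod (hp : 0 < p) {M x : ℕ} (hx : x < M) : (M - 1 - x) % p = mr p M (x % p) := by
  have h := Nat.add_mod x (M - 1 - x) p
  rw [show x + (M - 1 - x) = M - 1 by omega] at h
  have h1 := Nat.mod_lt x hp
  have h2 := Nat.mod_lt (M - 1 - x) hp
  rcases lt_or_ge (x % p + (M - 1 - x) % p) p with hl | hl
  · rw [Nat.mod_eq_of_lt hl] at h
    rw [mr, if_pos (by omega)]
    omega
  · rw [Nat.mod_eq_sub_mod hl, Nat.mod_eq_of_lt (show x % p + (M - 1 - x) % p - p < p by omega)] at h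
    rw [mr, if_neg (by omega)]
    omega

/-- The runners that come before their mirror images. -/
def halfSet (p M : ℕ) : Finset ℕ := {r ∈ Finset.range p | r < mr p M r}

theorem two_mul_card_halfSet (hp : 0 < p) (M : ℕ) : 2 * #(halfSet p M) ≤ p := by
  classical
  have hinj : Set.InjOn (mr p M) (halfSet p M) := by
    intro a ha b hb h
    simp only [halfSet, Finset.coe_filter, Finset.mem_range, Set.mem_ofPred_eq] at ha hb
    rw [← mr_mr hp M ha.1, h, mr_mr hp M hb.1]
  have hdis : Disjoint (halfSet p M) ((halfSet p M).image (mr p M)) := by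
    rw [Finset.disjoint_left]
    intro a ha hb0
    obtain ⟨b, hb, rfl⟩ := Finset.mem_image.1 hb0
    simp only [halfSet, Finset.mem_filter, Finset.mem_range] at ha hb
    rw [mr_mr hp M hb.1] at ha
    omega
  have h := Finset.card_le_card (s := halfSet p M ∪ (halfSet p M).image (mr p M)) (t := Finset.range p) ?_
  · rw [Finset.card_union_of_disjoint hdis, Finset.card_image_of_injOn hinj, Finset.card_range] at h
    omega
  · intro a ha
    rcases Finset.mem_union.1 ha with ha | ha
    · exact (Finset.mem_filter.1 ha).1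
    · obtain ⟨b, hb, rfl⟩ := Finset.mem_image.1 ha
      exact Finset.mem_range.2 (mr_lt hp M (Finset.mem_range.1 (Finset.mem_filter.1 hb).1))

theorem mem_refl' {M : ℕ} {S : Finset ℕ} {x : ℕ} : x ∈ refl' M S ↔ x < M ∧ M - 1 - x ∉ S := by
  simp [refl']

/-- Self-conjugate configurations. -/
def IsSC (p M : ℕ) (R : Multiset ℕ) (w : ℕ) (S : Finset ℕ) : Prop :=
  S.val.map (· % p) = R ∧ refl' M S = S ∧ wt p S = w

theorem sc_iff {M : ℕ} {S : Finset ℕ} (h : refl' M S = S) (x : ℕ) :
    x ∈ S ↔ x < M ∧ M - 1 - x ∉ S := by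
  conv_lhs => rw [← h]
  exact mem_refl'

/-- The moves that lower the weight on a self-mirrored runner. -/
def hookSet (p M w : ℕ) : Finset ℕ := {j ∈ Finset.Icc 1 w | (p * j) % 2 = (M - 1) % 2}

/-- Complete a configuration given outside a mirror runner. -/
def closeUp (p M r : ℕ) (T : Finset ℕ) : Finset ℕ :=
  {x ∈ Finset.range M | if x % p = mr p M r then M - 1 - x ∉ T else x ∈ T}

theorem pushUp_congr (_hp : 0 < p) {A B : Finset ℕ} {r m : ℕ} (hrm : r ≠ m)
    (h : ∀ z, z % p ≠ m → (z ∈ A ↔ z ∈ B)) (s z : ℕ) (hz : z % p ≠ m) :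
    z ∈ pushUp p A r s ↔ z ∈ pushUp p B r s := by
  have key : ∀ C : Finset ℕ, ∀ x, (if x ∈ topSet p C r s then x + p else x) % p = x % p := fun C x => by
    split_ifs
    · exact Nat.add_mod_right x p
    · rfl
  have htop : ∀ x, x % p ≠ m → (x ∈ topSet p A r s ↔ x ∈ topSet p B r s) := by
    intro x hx
    simp only [topSet, Finset.mem_filter, h x hx]
    refine and_congr_right fun _ => and_congr_right fun _ => ?_
    rw [show (A.filter fun y => y % p = r ∧ x ≤ y) = B.filter fun y => y % p = r ∧ x ≤ y by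
      ext y
      simp only [Finset.mem_filter]
      constructor <;> rintro ⟨h1, h2, h3⟩
      · exact ⟨(h y (h2 ▸ hrm)).1 h1, h2, h3⟩
      · exact ⟨(h y (h2 ▸ hrm)).2 h1, h2, h3⟩]
  simp only [pushUp, Finset.mem_image]
  constructor
  · rintro ⟨x, hx, rfl⟩
    rw [key] at hz
    exact ⟨x, (h x hz).1 hx, if_congr (htop x hz).symm rfl rfl⟩
  · rintro ⟨x, hx, rfl⟩
    rw [key] at hz
    exact ⟨x, (h x hz).2 hx, if_congr (htop x hz) rfl rfl⟩

theorem le_of_mem_pushUp {A : Finset ℕ} {r s z : ℕ} (hz : z ∈ A) :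
    ∃ y ∈ pushUp p A r s, z ≤ y ∧ y % p = z % p := by
  refine ⟨_, Finset.mem_image.2 ⟨z, hz, rfl⟩, ?_, ?_⟩
  · split_ifs <;> omega
  · split_ifs
    · exact Nat.add_mod_right z p
    · rfl

/-- Lowering a pair of mirror runners. -/
theorem exists_pair_move (hp : 0 < p) {M : ℕ} {S : Finset ℕ} (hsc : refl' M S = S) {x₀ : ℕ}
    (hx₀ : x₀ ∈ S) (hlvl : x₀ / p - below p S x₀ ≠ 0) (hr : x₀ % p < mr p M (x₀ % p)) :
    ∃ S' : Finset ℕ, ∃ s : ℕ, 1 ≤ s ∧ S'.val.map (· % p) = S.val.map (· % p) ∧ refl' M S' = S' ∧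
      wt p S' + 2 * s = wt p S ∧
      closeUp p M (x₀ % p) (pushUp p S' (x₀ % p) s) = S := by
  classical
  obtain ⟨T, s, -, hs, hR, hwt, hpush, hsame⟩ := exists_lower hp hx₀ hlvl
  set r := x₀ % p with hrdef
  set m := mr p M r with hm
  have hrm : r ≠ m := hr.ne
  have hrlt : r < p := Nat.mod_lt _ hp
  have hTM : ∀ z ∈ T, z < M := by
    intro z hz
    obtain ⟨y, hy, hzy, -⟩ := le_of_mem_pushUp (p := p) (r := r) (s := s) hz
    rw [hpush] at hy
    have := ((sc_iff hsc y).1 hy).1
    omega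
  set S' := closeUp p M r T with hS'
  have hagree : ∀ z, z % p ≠ m → (z ∈ S' ↔ z ∈ T) := by
    intro z hz
    simp only [hS', closeUp, Finset.mem_filter, Finset.mem_range, ← hm, if_neg hz]
    exact ⟨fun h => h.2, fun h => ⟨hTM z h, h⟩⟩
  have hagree' : ∀ z, z % p ≠ r → z % p ≠ m → (z ∈ S' ↔ z ∈ S) := fun z h1 h2 =>
    (hagree z h2).trans (hsame z h1)
  have hmir : ∀ x < M, (x % p = r → (M - 1 - x) % p = m) ∧ (x % p = m → (M - 1 - x) % p = r) ∧
      (x % p ≠ r → x % p ≠ m → (M - 1 - x) % p ≠ r ∧ (M - 1 - x) % p ≠ m) := by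
    intro x hx
    rw [mirror_mod hp hx]
    refine ⟨fun h => by rw [h], fun h => by rw [h, hm, mr_mr hp M hrlt], fun h1 h2 => ⟨fun h => h2 ?_,
      fun h => h1 ?_⟩⟩
    · rw [hm, ← h, mr_mr hp M (Nat.mod_lt x hp)]
    · rw [← mr_mr hp M (Nat.mod_lt x hp), h, hm, mr_mr hp M hrlt]
  have hsc' : refl' M S' = S' := by
    ext x
    rw [mem_refl']
    by_cases hx : x < M
    · simp only [hx, true_and]
      obtain ⟨h1, h2, h3⟩ := hmir x hx
      by_cases hxm : x % p = m
      · rw [hagree _ (by rw [h2 hxm]; exact hrm)]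
        simp only [hS', closeUp, Finset.mem_filter, Finset.mem_range, hx, true_and, ← hm, if_pos hxm]
      · rw [hagree x hxm]
        by_cases hxr : x % p = r
        · simp only [hS', closeUp, Finset.mem_filter, Finset.mem_range, ← hm, if_pos (h1 hxr),
            show M - 1 - x < M by omega, true_and, not_not, show M - 1 - (M - 1 - x) = x by omega]
        · obtain ⟨h4, h5⟩ := h3 hxr hxm
          rw [hagree' _ h4 h5, hsame x hxr]
          have := sc_iff hsc x
          simp only [hx, true_and] at this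
          exact this.symm
    · simp only [hx, false_and, false_iff]
      intro h
      exact hx (Finset.mem_range.1 (Finset.mem_filter.1 h).1)
  have hfilt : ∀ A : Finset ℕ, refl' M A = A → A.filter (fun x => x % p = m) =
      (((Finset.range M).filter fun z => z % p = r) \ A).image fun z => M - 1 - z := by
    intro A hA
    ext x
    simp only [Finset.mem_filter, Finset.mem_image, Finset.mem_sdiff, Finset.mem_range]
    constructor
    · rintro ⟨hxA, hxm⟩
      obtain ⟨hx, hn⟩ := (sc_iff hA x).1 hxA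
      exact ⟨M - 1 - x, ⟨⟨by omega, (hmir x hx).2.1 hxm⟩, hn⟩, by omega⟩
    · rintro ⟨z, ⟨⟨hz, hzr⟩, hzA⟩, rfl⟩
      refine ⟨(sc_iff hA _).2 ⟨by omega, ?_⟩, (hmir z hz).1 hzr⟩
      rwa [show M - 1 - (M - 1 - z) = z by omega]
  set U := (Finset.range M).filter fun z => z % p = r with hU
  have hinj : ∀ V : Finset ℕ, V ⊆ U → Set.InjOn (fun z => M - 1 - z) V := by
    intro V hV a ha b hb h
    have h1 := Finset.mem_range.1 (Finset.mem_filter.1 (hV ha)).1
    have h2 := Finset.mem_range.1 (Finset.mem_filter.1 (hV hb)).1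
    simp only at h
    omega
  have hUsub : ∀ A : Finset ℕ, (∀ z ∈ A, z < M) → U ∩ A = A.filter fun x => x % p = r := by
    intro A hA
    ext z
    simp only [hU, Finset.mem_inter, Finset.mem_filter, Finset.mem_range]
    exact ⟨fun h => ⟨h.2, h.1.2⟩, fun h => ⟨⟨hA z h.1, h.2⟩, h.1⟩⟩
  have hcount : ∀ A : Finset ℕ, refl' M A = A →
      #(A.filter fun x => x % p = m) + #(A.filter fun x => x % p = r) = #U := by
    intro A hA
    rw [hfilt A hA, Finset.card_image_of_injOn (hinj _ Finset.sdiff_subset),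
      ← hUsub A (fun z hz => ((sc_iff hA z).1 hz).1), Finset.card_sdiff_add_card_inter]
  have hsum : ∀ A : Finset ℕ, refl' M A = A →
      ∑ x ∈ A.filter (fun x => x % p = m), x + ∑ x ∈ U, x =
        #(A.filter fun x => x % p = m) * (M - 1) + ∑ x ∈ A.filter (fun x => x % p = r), x := by
    intro A hA
    rw [hfilt A hA, Finset.sum_image (hinj _ Finset.sdiff_subset),
      Finset.card_image_of_injOn (hinj _ Finset.sdiff_subset),
      ← hUsub A (fun z hz => ((sc_iff hA z).1 hz).1), ← Finset.sum_sdiff (s₁ := U ∩ A) (s₂ := U)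
        Finset.inter_subset_left, Finset.sdiff_inter_self_left, ← add_assoc, ← Finset.sum_add_distrib]
    congr 1
    rw [← smul_eq_mul, ← Finset.sum_const]
    refine Finset.sum_congr rfl fun z hz => ?_
    have := Finset.mem_range.1 (Finset.mem_filter.1 (Finset.mem_sdiff.1 hz).1).1
    omega
  have hcr : ∀ a, #(T.filter fun x => a = x % p) = #(S.filter fun x => a = x % p) := by
    intro a
    have := congrArg (Multiset.count a) hR
    rw [Multiset.count_map, Multiset.count_map] at this
    exact this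
  have hSr : S'.filter (fun x => x % p = r) = T.filter fun x => x % p = r := by
    ext z
    simp only [Finset.mem_filter]
    exact and_congr_left fun h => hagree z (h ▸ hrm)
  have hcr' : #(S'.filter fun x => x % p = r) = #(S.filter fun x => x % p = r) := by
    rw [hSr]
    simpa [eq_comm] using hcr r
  have hcm' : #(S'.filter fun x => x % p = m) = #(S.filter fun x => x % p = m) := by
    have h1 := hcount S' hsc'
    have h2 := hcount S hsc
    omega
  have hR' : S'.val.map (· % p) = S.val.map (· % p) := by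
    refine Multiset.ext.2 fun a => ?_
    rw [Multiset.count_map, Multiset.count_map]
    show #(S'.filter fun x => a = x % p) = #(S.filter fun x => a = x % p)
    by_cases ham : a = m
    · subst ham
      simpa [eq_comm] using hcm'
    · rw [← hcr a]
      congr 1
      ext z
      simp only [Finset.mem_filter]
      exact and_congr_left fun h => hagree z (h ▸ ham)
  have hTS : ∑ x ∈ T, x + p * s = ∑ x ∈ S, x := by
    have := sum_add_wt hp hR
    rw [← hwt, Nat.mul_add] at this
    omega
  have hsplit : ∀ A : Finset ℕ, ∑ x ∈ A, x = ∑ x ∈ A.filter (fun x => x % p = m), x +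
      (∑ x ∈ A.filter (fun x => x % p = r), x +
        ∑ x ∈ A.filter (fun x => x % p ≠ r ∧ x % p ≠ m), x) := by
    intro A
    rw [← Finset.sum_filter_add_sum_filter_not A (fun x => x % p = m)]
    congr 1
    rw [← Finset.sum_filter_add_sum_filter_not (A.filter fun x => ¬ x % p = m) (fun x => x % p = r),
      Finset.filter_filter, Finset.filter_filter]
    congr 1
    · exact Finset.sum_congr (Finset.filter_congr fun x _ => ⟨fun h => h.2, fun h => ⟨h ▸ hrm, h⟩⟩)
        fun _ _ => rfl
    · exact Finset.sum_congr (Finset.filter_congr fun x _ => and_comm) fun _ _ => rfl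
  have hTm : T.filter (fun x => x % p = m) = S.filter fun x => x % p = m := by
    ext z
    simp only [Finset.mem_filter]
    exact and_congr_left fun h => hsame z (fun h' => hrm (h'.symm.trans h))
  have hTo : T.filter (fun x => x % p ≠ r ∧ x % p ≠ m) = S.filter fun x => x % p ≠ r ∧ x % p ≠ m := by
    ext z
    simp only [Finset.mem_filter]
    exact and_congr_left fun h => hsame z h.1
  have hS'o : S'.filter (fun x => x % p ≠ r ∧ x % p ≠ m) = S.filter fun x => x % p ≠ r ∧ x % p ≠ m := by
    ext z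
    simp only [Finset.mem_filter]
    exact and_congr_left fun h => hagree' z h.1 h.2
  refine ⟨S', s, hs, hR', hsc', ?_, ?_⟩
  · refine Nat.eq_of_mul_eq_mul_left hp ?_
    have e1 := sum_add_wt hp hR'
    have e2 := hsum S' hsc'
    have e3 := hsum S hsc
    have e4 := hsplit S'
    have e5 := hsplit S
    have e6 := hsplit T
    rw [hTm, hTo] at e6
    rw [hS'o, hSr] at e4
    rw [hcm', hSr] at e2
    rw [Nat.mul_add, Nat.mul_left_comm]
    omega
  · ext x
    simp only [closeUp, Finset.mem_filter, Finset.mem_range, ← hm]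
    rw [sc_iff hsc x]
    refine and_congr_right fun hx => ?_
    by_cases hxm : x % p = m
    · rw [if_pos hxm, pushUp_congr hp hrm (fun z hz => hagree z hz) s _
        (by rw [(hmir x hx).2.1 hxm]; exact hrm), hpush]
    · rw [if_neg hxm, pushUp_congr hp hrm (fun z hz => hagree z hz) s _ hxm, hpush, sc_iff hsc x]
      simp [hx]

/-- Lowering a hook centred on the diagonal. -/
theorem exists_hook_move (hp : 0 < p) {M : ℕ} {S : Finset ℕ} (hsc : refl' M S = S) {x : ℕ}
    (hx : x ∈ S) (hpx : p ≤ x) (hgap : x - p ∉ S) (hfix : mr p M (x % p) = x % p) :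
    ∃ S' : Finset ℕ, ∃ j : ℕ, 1 ≤ j ∧ (p * j) % 2 = (M - 1) % 2 ∧
      S'.val.map (· % p) = S.val.map (· % p) ∧ refl' M S' = S' ∧ wt p S' + j = wt p S ∧
      insert ((M - 1 + p * j) / 2) (S'.erase ((M - 1 - p * j) / 2)) = S := by
  classical
  obtain ⟨hxM, hx'⟩ := (sc_iff hsc x).1 hx
  obtain ⟨y, hy, hlt, hmod⟩ : ∃ y ∈ S, M - 1 - y < y ∧ (M - 1 - y) % p = y % p := by
    by_cases hbig : M - 1 - x < x
    · exact ⟨x, hx, hbig, by rw [mirror_mod hp hxM, hfix]⟩
    · have hne : M - 1 - x ≠ x := fun h => hx' (h.symm ▸ hx)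
      have hz : x - p < M := by omega
      have hmem : M - 1 - (x - p) ∈ S := by
        by_contra hc
        exact hgap ((sc_iff hsc _).2 ⟨hz, hc⟩)
      refine ⟨_, hmem, by omega, ?_⟩
      have h1 : (x - p) % p = x % p := (Nat.mod_eq_sub_mod hpx).symm
      rw [show M - 1 - (M - 1 - (x - p)) = x - p by omega, mirror_mod hp hz, h1, hfix]
  obtain ⟨hyM, hy'⟩ := (sc_iff hsc y).1 hy
  set y' := M - 1 - y with hy'def
  have hdiv : p ∣ y - y' := (Nat.modEq_iff_dvd' hlt.le).1 hmod
  obtain ⟨j, hj⟩ := hdiv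
  set S' := insert y' (S.erase y) with hS'
  have hmem' : ∀ z, z ∈ S' ↔ z = y' ∨ (z ≠ y ∧ z ∈ S) := fun z => by simp [hS']
  have hR : S'.val.map (· % p) = S.val.map (· % p) := by
    have e1 : (y % p) ::ₘ (S.erase y).val.map (· % p) = S.val.map (· % p) := by
      rw [← Multiset.map_cons (fun z => z % p), Finset.erase_val, Multiset.cons_erase hy]
    rw [hS', Finset.insert_val_of_notMem (by simp [hy']), Multiset.map_cons, hmod]
    exact e1
  have hsc' : refl' M S' = S' := by
    ext z
    rw [mem_refl', hmem', hmem']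
    constructor
    · rintro ⟨hz, hn⟩
      by_cases hzy : z = y
      · exact absurd (Or.inl (by rw [hzy])) hn
      · by_cases hzy' : z = y'
        · exact Or.inl hzy'
        · refine Or.inr ⟨hzy, (sc_iff hsc z).2 ⟨hz, fun h => hn (Or.inr ⟨?_, h⟩)⟩⟩
          omega
    · rintro (rfl | ⟨hzy, hzS⟩)
      · refine ⟨by omega, ?_⟩
        rintro (h | ⟨h, -⟩)
        · omega
        · exact h (by omega)
      · obtain ⟨hz, hn⟩ := (sc_iff hsc z).1 hzS
        refine ⟨hz, ?_⟩
        rintro (h | ⟨-, h⟩)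
        · exact hzy (by omega)
        · exact hn h
  have hsum : ∑ z ∈ S', z + p * j = ∑ z ∈ S, z := by
    rw [hS', Finset.sum_insert (by simp [hy']), ← Finset.add_sum_erase S _ hy, ← hj]
    omega
  have hj1 : 1 ≤ j := by
    rcases Nat.eq_zero_or_pos j with rfl | h
    · rw [mul_zero] at hj; omega
    · exact h
  refine ⟨S', j, hj1, by omega, hR, hsc', ?_, ?_⟩
  · refine Nat.eq_of_mul_eq_mul_left hp ?_
    have := sum_add_wt hp hR
    rw [Nat.mul_add]
    omega
  · rw [show (M - 1 + p * j) / 2 = y by omega, show (M - 1 - p * j) / 2 = y' by omega, hS',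
      Finset.erase_insert (by simp [hy']), Finset.insert_erase hy]

theorem exists_sc (hp : 0 < p) (M : ℕ) (R : Multiset ℕ) (b : ℕ → ℕ) (hb0 : 1 ≤ b 0)
    (hb : ∀ w, 0 < w → ∑ j ∈ hookSet p M w, b (w - j) +
      #(halfSet p M) * ∑ s ∈ (Finset.Icc 1 w).filter (fun s => 2 * s ≤ w), b (w - 2 * s) ≤ b w) :
    ∀ w : ℕ, ∃ F : Finset (Finset ℕ), (∀ S, IsSC p M R w S → S ∈ F) ∧ #F ≤ b w := by
  classical
  intro w
  induction w using Nat.strong_induction_on with
  | _ w ih =>
  rcases Nat.eq_zero_or_pos w with rfl | hw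
  · by_cases h : ∃ S, IsSC p M R 0 S
    · obtain ⟨S, hS⟩ := h
      exact ⟨{S}, fun S' hS' => Finset.mem_singleton.2
        (eq_of_wt_zero hp (hS'.1.trans hS.1.symm) hS'.2.2 hS.2.2), by rw [Finset.card_singleton]; exact hb0⟩
    · exact ⟨∅, fun S hS => absurd ⟨S, hS⟩ h, by simp⟩
  choose F hF1 hF2 using ih
  let F' : ℕ → Finset (Finset ℕ) := fun k => if h : k < w then F k h else ∅
  have hF'2 : ∀ k, k < w → #(F' k) ≤ b k := fun k hk => by
    simp only [F', dif_pos hk]
    exact hF2 k hk
  refine ⟨((hookSet p M w).biUnion fun j => (F' (w - j)).image fun S' =>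
      insert ((M - 1 + p * j) / 2) (S'.erase ((M - 1 - p * j) / 2))) ∪
    ((halfSet p M).biUnion fun r => ((Finset.Icc 1 w).filter fun s => 2 * s ≤ w).biUnion fun s =>
      (F' (w - 2 * s)).image fun S' => closeUp p M r (pushUp p S' r s)), fun S hS => ?_, ?_⟩
  · obtain ⟨hR, hsc, hwt⟩ := hS
    obtain ⟨x₀, hx₀, hlvl⟩ := Finset.exists_ne_zero_of_sum_ne_zero (hwt ▸ hw.ne' : wt p S ≠ 0)
    obtain ⟨z, hz, hzr, hzp, hgap⟩ := exists_gap_bead hp hx₀ hlvl
    rw [Finset.mem_union]
    by_cases hfix : mr p M (z % p) = z % p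
    · refine Or.inl ?_
      obtain ⟨S', j, hj, hpar, hR', hsc', hw', heq⟩ := exists_hook_move hp hsc hz hzp hgap hfix
      refine Finset.mem_biUnion.2 ⟨j, Finset.mem_filter.2 ⟨Finset.mem_Icc.2 ⟨hj, by omega⟩, hpar⟩,
        Finset.mem_image.2 ⟨S', ?_, heq⟩⟩
      simp only [F', dif_pos (show w - j < w by omega)]
      exact hF1 _ _ S' ⟨hR'.trans hR, hsc', by omega⟩
    · refine Or.inr ?_
      obtain ⟨x, hx, hxl, hxr⟩ : ∃ x ∈ S, x / p - below p S x ≠ 0 ∧ x % p < mr p M (x % p) := by
        rcases lt_or_gt_of_ne (Ne.symm hfix) with hlt | hgt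
        · exact ⟨z, hz, level_ne_zero_of_gap hp hzp hgap, hlt⟩
        · obtain ⟨hzM, hzn⟩ := (sc_iff hsc z).1 hz
          have hz' : z - p < M := by omega
          have hmem : M - 1 - (z - p) ∈ S := by
            by_contra hc
            exact hgap ((sc_iff hsc _).2 ⟨hz', hc⟩)
          have hle : p ≤ M - 1 - (z - p) := by omega
          have heq : M - 1 - (z - p) - p = M - 1 - z := by omega
          have hmod : (M - 1 - (z - p)) % p = mr p M (z % p) := by
            rw [mirror_mod hp hz', ← Nat.mod_eq_sub_mod hzp]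
          refine ⟨_, hmem, level_ne_zero_of_gap hp hle (heq ▸ hzn), ?_⟩
          rw [hmod, mr_mr hp M (Nat.mod_lt z hp)]
          exact hgt
      obtain ⟨S', s, hs, hR', hsc', hw', heq⟩ := exists_pair_move hp hsc hx hxl hxr
      refine Finset.mem_biUnion.2 ⟨x % p, Finset.mem_filter.2
        ⟨Finset.mem_range.2 (Nat.mod_lt x hp), hxr⟩, Finset.mem_biUnion.2 ⟨s,
        Finset.mem_filter.2 ⟨Finset.mem_Icc.2 ⟨hs, by omega⟩, by omega⟩,
        Finset.mem_image.2 ⟨S', ?_, heq⟩⟩⟩
      simp only [F', dif_pos (show w - 2 * s < w by omega)]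
      exact hF1 _ _ S' ⟨hR'.trans hR, hsc', by omega⟩
  · refine (Finset.card_union_le _ _).trans (le_trans (add_le_add ?_ ?_) (hb w hw))
    · refine Finset.card_biUnion_le.trans (Finset.sum_le_sum fun j hj => ?_)
      have := (Finset.mem_Icc.1 (Finset.mem_filter.1 hj).1).1
      exact Finset.card_image_le.trans (hF'2 _ (by omega))
    · rw [← smul_eq_mul, ← Finset.sum_const]
      refine Finset.card_biUnion_le.trans (Finset.sum_le_sum fun r _ => ?_)
      refine Finset.card_biUnion_le.trans (Finset.sum_le_sum fun s hs => ?_)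
      have := (Finset.mem_Icc.1 (Finset.mem_filter.1 hs).1).1
      exact Finset.card_image_le.trans (hF'2 _ (by omega))

theorem sum_odd_step (b : ℕ → ℕ) (v : ℕ) :
    (∑ j ∈ (Finset.Icc 1 (v + 1)).filter (fun j => j % 2 = 1), b (v + 1 - j) =
      b v + ∑ s ∈ (Finset.Icc 1 v).filter (fun s => 2 * s ≤ v), b (v - 2 * s)) ∧
    (∑ s ∈ (Finset.Icc 1 (v + 1)).filter (fun s => 2 * s ≤ v + 1), b (v + 1 - 2 * s) =
      ∑ j ∈ (Finset.Icc 1 v).filter (fun j => j % 2 = 1), b (v - j)) := by
  constructor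
  · rw [← Finset.add_sum_erase _ _ (show 1 ∈ (Finset.Icc 1 (v + 1)).filter (fun j => j % 2 = 1) by simp),
      Nat.add_sub_cancel]
    congr 1
    refine Finset.sum_bij' (fun j _ => (j - 1) / 2) (fun s _ => 2 * s + 1) ?_ ?_ ?_ ?_ ?_ <;>
      intro a ha <;>
      simp only [Finset.mem_erase, Finset.mem_filter, Finset.mem_Icc] at ha ⊢
    · omega
    · omega
    · omega
    · omega
    · congr 1; omega
  · refine Finset.sum_bij' (fun s _ => 2 * s - 1) (fun j _ => (j + 1) / 2) ?_ ?_ ?_ ?_ ?_ <;>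
      intro a ha <;>
      simp only [Finset.mem_filter, Finset.mem_Icc] at ha ⊢
    · omega
    · omega
    · omega
    · omega
    · congr 1; omega

/-- Self-conjugate configurations for odd `p`. -/
theorem exists_sc_odd (hp : 3 ≤ p) (hodd : p % 2 = 1) {M : ℕ} (hM : (M - 1) % 2 = 1)
    (R : Multiset ℕ) (w : ℕ) :
    ∃ F : Finset (Finset ℕ), (∀ S, IsSC p M R w S → S ∈ F) ∧ #F ≤ ((p + 1) / 2) ^ (w - 1) := by
  set q := (p + 1) / 2 with hq
  set m := (p - 1) / 2 with hm
  have hm1 : 1 ≤ m := by omega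
  have hqm : q = m + 1 := by omega
  have key : ∀ w : ℕ, 0 < w → ∑ j ∈ (Finset.Icc 1 w).filter (fun j => j % 2 = 1), q ^ (w - j - 1) +
      m * ∑ s ∈ (Finset.Icc 1 w).filter (fun s => 2 * s ≤ w), q ^ (w - 2 * s - 1) ≤ q ^ (w - 1) := by
    intro w
    induction w with
    | zero => intro h; omega
    | succ v ih =>
      intro _
      obtain ⟨e1, e2⟩ := sum_odd_step (fun k => q ^ (k - 1)) v
      rw [e1, e2, Nat.add_sub_cancel]
      rcases Nat.eq_zero_or_pos v with rfl | hv
      · simp
      set A := ∑ j ∈ (Finset.Icc 1 v).filter (fun j => j % 2 = 1), q ^ (v - j - 1)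
      set E := ∑ s ∈ (Finset.Icc 1 v).filter (fun s => 2 * s ≤ v), q ^ (v - 2 * s - 1)
      have h := ih hv
      calc q ^ (v - 1) + E + m * A ≤ q ^ (v - 1) + m * (m * E) + m * A := by
            have : E * 1 ≤ m * (m * E) := by
              calc E * 1 = 1 * (1 * E) := by ring
                _ ≤ m * (m * E) := Nat.mul_le_mul hm1 (Nat.mul_le_mul_right E hm1)
            omega
        _ = q ^ (v - 1) + m * (A + m * E) := by ring
        _ ≤ q ^ (v - 1) + m * q ^ (v - 1) := Nat.add_le_add_left (Nat.mul_le_mul_left m h) _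
        _ = q * q ^ (v - 1) := by rw [hqm]; ring
        _ = q ^ v := by rw [← pow_succ', Nat.sub_add_cancel hv]
  refine exists_sc (by omega) M R (fun k => q ^ (k - 1)) (by simp) (fun k hk => ?_) w
  have hhook : hookSet p M k = (Finset.Icc 1 k).filter fun j => j % 2 = 1 := by
    refine Finset.filter_congr fun j _ => ?_
    rw [hM, Nat.mul_mod, hodd, one_mul, Nat.mod_mod]
  rw [hhook]
  refine le_trans (Nat.add_le_add_left (Nat.mul_le_mul_right _ ?_) _) (key k hk)
  have := two_mul_card_halfSet (show 0 < p by omega) M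
  omega

/-- The bound for two runners. -/
def scTwo (w : ℕ) : ℕ := if w % 2 = 1 then 0 else if w = 0 then 1 else 2 ^ (w / 2 - 1)

theorem exists_sc_two {M : ℕ} (hM : (M - 1) % 2 = 1) (R : Multiset ℕ) (w : ℕ) :
    ∃ F : Finset (Finset ℕ), (∀ S, IsSC 2 M R w S → S ∈ F) ∧ #F ≤ scTwo w := by
  refine exists_sc (by omega) M R scTwo (by simp [scTwo]) (fun k hk => ?_) w
  have hhook : hookSet 2 M k = ∅ := by
    refine Finset.filter_eq_empty_iff.2 fun j _ => ?_
    omega
  rw [hhook, Finset.sum_empty, zero_add]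
  refine le_trans (Nat.mul_le_mul_right _ (show #(halfSet 2 M) ≤ 1 by
    have := two_mul_card_halfSet (show 0 < 2 by omega) M; omega)) ?_
  rw [one_mul]
  clear hk hhook
  induction k using Nat.strong_induction_on with
  | _ k ih =>
    match k with
    | 0 => simp
    | 1 => simp [Finset.filter_singleton]
    | v + 2 =>
      rw [show (∑ s ∈ (Finset.Icc 1 (v + 2)).filter (fun s => 2 * s ≤ v + 2), scTwo (v + 2 - 2 * s)) =
        scTwo v + ∑ s ∈ (Finset.Icc 1 v).filter (fun s => 2 * s ≤ v), scTwo (v - 2 * s) by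
        rw [← Finset.add_sum_erase _ _ (show 1 ∈ (Finset.Icc 1 (v + 2)).filter (fun s => 2 * s ≤ v + 2) by simp)]
        congr 1
        refine Finset.sum_bij' (fun s _ => s - 1) (fun s _ => s + 1) ?_ ?_ ?_ ?_ ?_ <;>
          intro a ha <;>
          simp only [Finset.mem_erase, Finset.mem_filter, Finset.mem_Icc] at ha ⊢
        · omega
        · omega
        · omega
        · omega
        · congr 1; omega]
      rcases Nat.eq_zero_or_pos v with rfl | hv
      · simp [scTwo]
      refine le_trans (Nat.add_le_add_left (ih v (by omega)) _) ?_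
      simp only [scTwo]
      rcases Nat.mod_two_eq_zero_or_one v with h | h
      · rw [if_neg (by omega : ¬ v % 2 = 1), if_neg (by omega : ¬ v = 0),
          if_neg (by omega : ¬ (v + 2) % 2 = 1), if_neg (by omega : ¬ v + 2 = 0),
          show (v + 2) / 2 - 1 = (v / 2 - 1) + 1 by omega, pow_succ]
        omega
      · rw [if_pos h, if_pos (show (v + 2) % 2 = 1 by omega)]

/-- All configurations of weight one. -/
theorem exists_weight_one (hp : 0 < p) (R : Multiset ℕ) :
    ∃ F : Finset (Finset ℕ), (∀ S : Finset ℕ, S.val.map (· % p) = R → wt p S = 1 → S ∈ F) ∧ #F ≤ p := by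
  classical
  by_cases h : ∃ T : Finset ℕ, T.val.map (· % p) = R ∧ wt p T = 0
  · obtain ⟨T, hT, hT0⟩ := h
    refine ⟨(Finset.range p).image fun r => pushUp p T r 1, fun S hS hw => ?_,
      Finset.card_image_le.trans (Finset.card_range p).le⟩
    obtain ⟨x₀, hx₀, hlvl⟩ := Finset.exists_ne_zero_of_sum_ne_zero (by omega : wt p S ≠ 0)
    obtain ⟨S', s, -, hs, hR', hwt, hpush, -⟩ := exists_lower hp hx₀ hlvl
    have hs1 : s = 1 := by omega
    have : S' = T := eq_of_wt_zero hp ((hR'.trans hS).trans hT.symm) (by omega) hT0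
    exact Finset.mem_image.2 ⟨x₀ % p, Finset.mem_range.2 (Nat.mod_lt _ hp), by rw [← this, ← hs1]; exact hpush⟩
  · refine ⟨∅, fun S hS hw => absurd ?_ h, by simp⟩
    obtain ⟨x₀, hx₀, hlvl⟩ := Finset.exists_ne_zero_of_sum_ne_zero (by omega : wt p S ≠ 0)
    obtain ⟨S', s, -, hs, hR', hwt, -, -⟩ := exists_lower hp hx₀ hlvl
    exact ⟨S', hR'.trans hS, by omega⟩

/-- With one displaced bead the configuration is determined. -/
theorem single_unique (hp : 0 < p) {S T : Finset ℕ} (hR : S.val.map (· % p) = T.val.map (· % p))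
    (hw : wt p S = wt p T) {x y : ℕ} (hxy : x % p = y % p)
    (hx : {z ∈ S | below p S z < z / p} = {x}) (hy : {z ∈ T | below p T z < z / p} = {y}) :
    S = T := by
  classical
  have key : ∀ (A : Finset ℕ) (a : ℕ), {z ∈ A | below p A z < z / p} = {a} →
      a ∈ A ∧ wt p (A.erase a) = 0 ∧ a = a % p + p * (wt p A + #((A.erase a).filter fun z => z % p = a % p)) := by
    intro A a ha
    have haA : a ∈ A ∧ below p A a < a / p := by
      have := Finset.mem_singleton_self a
      rw [← ha] at this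
      simpa using this
    have hzero : ∀ z ∈ A, z ≠ a → below p A z = z / p := fun z hz hne => by
      refine le_antisymm (below_le hp A z) (not_lt.1 fun h => hne ?_)
      exact Finset.mem_singleton.1 (ha ▸ Finset.mem_filter.2 ⟨hz, h⟩)
    have hmax : ∀ z ∈ A, z % p = a % p → z ≠ a → z < a := by
      intro z hz hmod hne
      refine lt_of_le_of_ne (not_lt.1 fun hlt => ?_) hne
      apply haA.2.ne
      rw [below_eq_iff hp]
      intro q hq
      have h1 := (below_eq_iff hp A z).1 (hzero z hz hne) q (lt_of_lt_of_le hq (Nat.div_le_div_right hlt.le))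
      rwa [hmod] at h1
    have hbel : ∀ z ∈ A.erase a, below p (A.erase a) z = below p A z := by
      intro z hz
      obtain ⟨hne, hzA⟩ := Finset.mem_erase.1 hz
      unfold below
      congr 1
      rw [Finset.filter_erase, Finset.erase_eq_of_notMem]
      intro h
      obtain ⟨-, hm, hl⟩ := Finset.mem_filter.1 h
      exact absurd hl (hmax z hzA hm.symm hne).le.not_gt
    refine ⟨haA.1, ?_, ?_⟩
    · refine Finset.sum_eq_zero fun z hz => ?_
      obtain ⟨hne, hzA⟩ := Finset.mem_erase.1 hz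
      rw [hbel z hz, hzero z hzA hne, Nat.sub_self]
    · have hcount : #((A.erase a).filter fun z => z % p = a % p) = below p A a := by
        unfold below
        congr 1
        ext z
        simp only [Finset.mem_filter, Finset.mem_erase]
        constructor
        · rintro ⟨⟨hne, hz⟩, hm⟩; exact ⟨hz, hm, hmax z hz hm hne⟩
        · rintro ⟨hz, hm, hl⟩; exact ⟨⟨hl.ne, hz⟩, hm⟩
      have hwtA : wt p A = a / p - below p A a := by
        rw [wt, Finset.sum_eq_single a (fun z hz hne => by rw [hzero z hz hne, Nat.sub_self])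
          (fun h => absurd haA.1 h)]
      rw [hcount, hwtA, Nat.sub_add_cancel haA.2.le, Nat.mod_add_div]
  obtain ⟨hxS, hx0, hxe⟩ := key S x hx
  obtain ⟨hyT, hy0, hye⟩ := key T y hy
  have hR2 : (S.erase x).val.map (· % p) = (T.erase y).val.map (· % p) := by
    have e1 : (x % p) ::ₘ (S.erase x).val.map (· % p) = S.val.map (· % p) := by
      rw [← Multiset.map_cons (fun z => z % p), Finset.erase_val, Multiset.cons_erase hxS]
    have e2 : (y % p) ::ₘ (T.erase y).val.map (· % p) = T.val.map (· % p) := by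
      rw [← Multiset.map_cons (fun z => z % p), Finset.erase_val, Multiset.cons_erase hyT]
    rw [hR, ← e2, hxy] at e1
    exact (Multiset.cons_inj_right _).1 e1
  have herase := eq_of_wt_zero hp hR2 hx0 hy0
  rw [hw, hxy, herase] at hxe
  rw [← Finset.insert_erase hxS, ← Finset.insert_erase hyT, herase, hxe.trans hye.symm]

/-- A sharper bound for two runners. -/
theorem exists_fam_two (R : Multiset ℕ) {w : ℕ} (hw : 2 ≤ w) :
    ∃ F : Finset (Finset ℕ), (∀ S, IsFam 2 R w S → S ∈ F) ∧ #F ≤ 2 ^ (w - 2) + 1 := by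
  classical
  choose F hF1 hF2 using fun k : ℕ => exists_fam (show 0 < 2 by omega) R k
  let P : Finset ℕ → Prop := fun S => IsFam 2 R w S ∧
    ∃ x, x % 2 = 1 ∧ {z ∈ S | below 2 S z < z / 2} = {x}
  have huniq : ∀ S T, P S → P T → S = T := fun S T ⟨hS, x, hx, hx'⟩ ⟨hT, y, hy, hy'⟩ =>
    single_unique (by omega) (hS.1.trans hT.1.symm) (hS.2.2.trans hT.2.2.symm) (hx.trans hy.symm) hx' hy'
  obtain ⟨F₁, hF₁, hF₁c⟩ : ∃ F₁ : Finset (Finset ℕ), (∀ S, P S → S ∈ F₁) ∧ #F₁ ≤ 1 := by
    by_cases h : ∃ S, P S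
    · obtain ⟨S, hS⟩ := h
      exact ⟨{S}, fun T hT => Finset.mem_singleton.2 (huniq T S hT hS), by simp⟩
    · exact ⟨∅, fun S hS => absurd ⟨S, hS⟩ h, by simp⟩
  refine ⟨((Finset.range (w - 1)).biUnion fun j => (F j).image fun S' => pushUp 2 S' 1 (w - j)) ∪ F₁,
    fun S hS => ?_, ?_⟩
  · obtain ⟨hR, hG, hwt⟩ := hS
    obtain ⟨x₀, hx₀, hlvl⟩ := Finset.exists_ne_zero_of_sum_ne_zero (by omega : wt 2 S ≠ 0)
    have hzero : ∀ z ∈ S, z % 2 = 0 → below 2 S z = z / 2 := fun z hz h0 =>
      (below_eq_iff (by omega) S z).2 fun q hq => by rw [h0, zero_add]; exact hG z hz h0 q hq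
    have hr : x₀ % 2 = 1 := by
      rcases Nat.mod_two_eq_zero_or_one x₀ with h | h
      · exact absurd (by rw [hzero x₀ hx₀ h, Nat.sub_self]) hlvl
      · exact h
    obtain ⟨S', s, hscard, hs, hR', hwt', hpush, hsame⟩ := exists_lower (by omega) hx₀ hlvl
    rw [hr] at hpush hscard hsame
    rw [Finset.mem_union]
    by_cases hs1 : s = 1
    · refine Or.inr (hF₁ S ⟨⟨hR, hG, hwt⟩, ?_⟩)
      obtain ⟨x, hx⟩ := Finset.card_eq_one.1 (hscard.symm.trans hs1)
      refine ⟨x, (Finset.mem_filter.1 (hx ▸ Finset.mem_singleton_self x)).2.1, ?_⟩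
      rw [← hx]
      refine Finset.filter_congr fun z hz => ⟨fun h => ⟨?_, h⟩, fun h => h.2⟩
      rcases Nat.mod_two_eq_zero_or_one z with h0 | h0
      · exact absurd (hzero z hz h0) h.ne
      · exact h0
    · refine Or.inl (Finset.mem_biUnion.2 ⟨w - s, Finset.mem_range.2 (by omega),
        Finset.mem_image.2 ⟨S', hF1 _ _ ⟨hR'.trans hR, ?_, by omega⟩, ?_⟩⟩)
      · intro z hz hz0 q hq
        have hz' := (hsame z (by omega)).1 hz
        exact (hsame (2 * q) (by omega)).2 (hG z hz' hz0 q hq)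
      · rw [show w - (w - s) = s by omega]
        exact hpush
  · refine (Finset.card_union_le _ _).trans (add_le_add ?_ hF₁c)
    refine Finset.card_biUnion_le.trans ((Finset.sum_le_sum fun j _ => Finset.card_image_le.trans (hF2 j)).trans ?_)
    obtain ⟨v, rfl⟩ : ∃ v, w = v + 2 := ⟨w - 2, by omega⟩
    rw [show v + 2 - 1 = v + 1 by omega, sum_famBound (by omega), Nat.add_sub_cancel]

end H18.AltBlock
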