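import Cfsg.Agent.H18.AltBlock.Index2
import Cfsg.Agent.H18.SymBlock.Core
import Cfsg.Agent.H20.FirstMain

/-!
# Blocks of a group and of a subgroup of index two
-/

set_option autoImplicit false
set_option linter.unusedSectionVars false
set_option linter.style.haveILetI false

open Cfsg Finset MonoidAlgebra

namespace H18.AltBlock

universe u

variable {G : Type u} [Group G] [Fintype G] (H : Subgroup G) [hN : H.Normal] [Fintype H]

/-- Invariant functions on a normal subgroup see only the character above. -/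
theorem sum_mul_constituent {ψ : IrrCharacter G} {χ : IrrCharacter H}
    (hχ : classInner (fun h : H => (ψ : G → ℂ) h) (χ : H → ℂ) ≠ 0) (a : H → ℂ)
    (ha : ∀ (g : G) (n : H), a ⟨g * n * g⁻¹, hN.conj_mem n n.2 g⟩ = a n) :
    (∑ n : H, a n * (ψ : G → ℂ) n) / (ψ : G → ℂ) 1 =
      (∑ n : H, a n * (χ : H → ℂ) n) / (χ : H → ℂ) 1 := by
  classical
  set e := classInner (fun h : H => (ψ : G → ℂ) h) (χ : H → ℂ)
  set s : Finset (IrrCharacter H) := (Finset.univ : Finset (IrrCharacter H)).filter
    fun φ : IrrCharacter H => ∃ x, H13.twist H x (χ : H → ℂ) = (φ : H → ℂ) with hs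
  have hres := H13.clifford_res H ψ.2 χ.2 hχ s (fun φ => by simp [hs])
  have hφ : ∀ φ ∈ s, (φ : H → ℂ) 1 = (χ : H → ℂ) 1 ∧
      ∑ n : H, a n * (φ : H → ℂ) n = ∑ n : H, a n * (χ : H → ℂ) n := by
    intro φ hφ
    obtain ⟨x, hx⟩ := (Finset.mem_filter.1 hφ).2
    rw [← hx]
    constructor
    · exact congrArg (χ : H → ℂ) (Subtype.ext (by simp))
    · refine Fintype.sum_equiv (MulAut.conjNormal x : H ≃* H).toEquiv _ _ fun n => ?_
      rw [H13.twist_eq_comp]
      show a n * _ = a (MulAut.conjNormal x n) * _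
      rw [show (MulAut.conjNormal x n : H) = ⟨x * n * x⁻¹, hN.conj_mem n n.2 x⟩ from
        Subtype.ext (MulAut.conjNormal_apply x n), ha]
      congr 2
  have hval : ∀ n : H, (ψ : G → ℂ) n = e * ∑ φ ∈ s, (φ : H → ℂ) n := fun n => by
    have := congrFun hres n
    simpa using this
  have hne : (s : Finset (IrrCharacter H)).Nonempty :=
    ⟨χ, Finset.mem_filter.2 ⟨Finset.mem_univ χ, 1, H13.twist_one H _⟩⟩
  have h1 : (ψ : G → ℂ) 1 = e * ((#s : ℕ) : ℂ) * (χ : H → ℂ) 1 := by
    have := hval 1
    rw [OneMemClass.coe_one] at this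
    rw [this, Finset.sum_congr rfl fun φ hf => (hφ φ hf).1, Finset.sum_const, nsmul_eq_mul]
    ring
  have h2 : ∑ n : H, a n * (ψ : G → ℂ) n = e * ((#s : ℕ) : ℂ) * ∑ n : H, a n * (χ : H → ℂ) n := by
    simp only [hval, Finset.mul_sum]
    rw [Finset.sum_comm]
    rw [Finset.sum_congr rfl (g := fun _ => ∑ n : H, e * (a n * (χ : H → ℂ) n)) fun φ hf => ?_,
      Finset.sum_const, nsmul_eq_mul, Finset.mul_sum]
    · exact Finset.sum_congr rfl fun n _ => by ring
    · rw [← Finset.mul_sum, ← (hφ φ hf).2, Finset.mul_sum]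
      exact Finset.sum_congr rfl fun n _ => by ring
  rw [h1, h2, mul_div_mul_left _ _ (mul_ne_zero hχ (by exact_mod_cast hne.card_pos.ne'))]

omit [Fintype H] hN in
open Classical in
theorem centralChar_eq_sum (f : IrrCharacter G) (g : G) :
    centralChar (f : G → ℂ) g = (∑ k : G, (if IsConj g k then 1 else 0) * (f : G → ℂ) k) / (f : G → ℂ) 1 := by
  rw [← H20.omega_clSum, H20.omega]
  congr 1
  exact Finset.sum_congr rfl fun k _ => by rw [H20.coeff_clSum]; split_ifs <;> simp

variable {M : Ideal AlgInt} [M.IsPrime]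

/-- Covering blocks agree on the classes inside the subgroup. -/
theorem memIdeal_centralChar_sub {ψ ψ' : IrrCharacter G} {χ χ' : IrrCharacter H}
    (hχ : classInner (fun h : H => (ψ : G → ℂ) h) (χ : H → ℂ) ≠ 0)
    (hχ' : classInner (fun h : H => (ψ' : G → ℂ) h) (χ' : H → ℂ) ≠ 0)
    (hs : SameBlock M (χ : H → ℂ) (χ' : H → ℂ)) {g : G} (hg : g ∈ H) :
    MemLocalIdeal M (centralChar (ψ : G → ℂ) g - centralChar (ψ' : G → ℂ) g) := by
  classical
  have key : ∀ (f : IrrCharacter G) (θ : IrrCharacter H),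
      classInner (fun h : H => (f : G → ℂ) h) (θ : H → ℂ) ≠ 0 →
      centralChar (f : G → ℂ) g =
        ∑ k : H, (if IsConj g (k : G) then 1 else 0) * ((θ : H → ℂ) k / (θ : H → ℂ) 1) := by
    intro f θ hθ
    simp only [← mul_div_assoc]
    rw [centralChar_eq_sum, ← Finset.sum_div, ← sum_mul_constituent H hθ]
    · congr 1
      rw [← Finset.sum_subset (Finset.subset_univ (Finset.univ.filter (· ∈ H))) fun k _ hk => by
        rw [if_neg, zero_mul]
        intro hc
        obtain ⟨c, rfl⟩ := isConj_iff.1 hc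
        exact hk (Finset.mem_filter.2 ⟨Finset.mem_univ _, hN.conj_mem g hg c⟩),
        Finset.sum_subtype (p := fun k => k ∈ H) (F := ‹Fintype H›) _ (fun k => by simp)]
    · intro c n
      by_cases h : IsConj g (n : G)
      · rw [if_pos h, if_pos (h.trans (isConj_iff.2 ⟨c, rfl⟩))]
      · rw [if_neg h, if_neg fun h' => h (h'.trans (isConj_iff.2 ⟨c, rfl⟩).symm)]
  rw [key ψ χ hχ, key ψ' χ' hχ', ← Finset.sum_sub_distrib]
  simp only [← mul_sub]
  refine H18.SymBlock.sum_memIdeal_of_sameBlock (f := fun k : H => if IsConj g (k : G) then (1 : ℂ) else 0)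
    ?_ ?_ hs
  · intro k l hkl
    have h' : IsConj (k : G) (l : G) := MonoidHom.map_isConj H.subtype hkl
    by_cases h : IsConj g (k : G)
    · rw [if_pos h, if_pos (h.trans h')]
    · rw [if_neg h, if_neg fun h2 => h (h2.trans h'.symm)]
  · intro k
    split_ifs
    · exact ⟨1, 1, H20.one_notMem, by simp⟩
    · exact H20.memRing_of_memIdeal H20.memIdeal_zero

variable (hidx : H.index = 2)

omit hN [Fintype H] in
theorem lam_twistSgn (ψ : IrrCharacter G) (g : G) :
    (g ∈ H → H20.lam M (twistSgn H hidx ψ) (H20.clSum (H20.k M) g) = H20.lam M ψ (H20.clSum (H20.k M) g)) ∧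
      (g ∉ H → H20.lam M (twistSgn H hidx ψ) (H20.clSum (H20.k M) g) = -H20.lam M ψ (H20.clSum (H20.k M) g)) := by
  have hc : centralChar (twistSgn H hidx ψ : G → ℂ) g =
      ((sgnHom H hidx g : ℂˣ) : ℂ) * centralChar (ψ : G → ℂ) g := by
    simp only [centralChar, twistSgn_apply, map_one, Units.val_one, one_mul]
    ring
  refine ⟨fun hg => ?_, fun hg => ?_⟩
  · rw [H20.lam_clSum, H20.lam_clSum, hc, sgnHom_of_mem hidx hg, one_mul]
  · rw [H20.lam_clSum, H20.lam_clSum, eq_neg_iff_add_eq_zero,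
      ← H20.redC_add (H20.memRing_centralChar _ g) (H20.memRing_centralChar _ g), hc,
      sgnHom_of_not_mem hidx hg, neg_one_mul, neg_add_cancel, H20.redC_zero]

/-- The blocks covering a block of the subgroup differ by the linear character. -/
theorem sameBlock_or_twist {ψ ψ' : IrrCharacter G} {χ χ' : IrrCharacter H}
    (hχ : classInner (fun h : H => (ψ : G → ℂ) h) (χ : H → ℂ) ≠ 0)
    (hχ' : classInner (fun h : H => (ψ' : G → ℂ) h) (χ' : H → ℂ) ≠ 0)
    (hs : SameBlock M (χ : H → ℂ) (χ' : H → ℂ)) :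
    SameBlock M (ψ : G → ℂ) (ψ' : G → ℂ) ∨
      SameBlock M (twistSgn H hidx ψ : G → ℂ) (ψ' : G → ℂ) := by
  classical
  haveI := Fintype.ofFinite (ConjClasses G)
  set a : G → H20.k M := fun g => H20.lam M ψ (H20.clSum (H20.k M) g)
  set a' : G → H20.k M := fun g => H20.lam M ψ' (H20.clSum (H20.k M) g)
  have heven : ∀ g ∈ H, a g = a' g := fun g hg => by
    simp only [a, a', H20.lam_clSum]
    exact (H20.redC_eq_iff (H20.memRing_centralChar _ g) (H20.memRing_centralChar _ g)).2
      (memIdeal_centralChar_sub H hχ hχ' hs hg)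
  have hprod : ∀ x y : G, x ∉ H → y ∉ H → a x * a y = a' x * a' y := by
    intro x y hx hy
    simp only [a, a']
    rw [← H20.lam_mul ψ (H20.isCl_clSum _ x) (H20.isCl_clSum _ y),
      ← H20.lam_mul ψ' (H20.isCl_clSum _ x) (H20.isCl_clSum _ y), H20.lam_eq_sum, H20.lam_eq_sum]
    refine Finset.sum_congr rfl fun C _ => ?_
    by_cases hC : C.out ∈ H
    · have := heven _ hC
      simp only [a, a', H20.lam_clSum] at this
      rw [this]
    · rw [H20.coeff_mul_group, Finset.sum_eq_zero, zero_mul, zero_mul]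
      intro k _
      rw [H20.coeff_clSum, H20.coeff_clSum]
      by_cases h1 : IsConj x k
      · by_cases h2 : IsConj y (k⁻¹ * C.out)
        · exfalso
          apply hC
          obtain ⟨c, hc⟩ := isConj_iff.1 h1
          obtain ⟨d, hd⟩ := isConj_iff.1 h2
          have hk : k ∉ H := fun hk => hx (by
            have := hN.conj_mem k hk c⁻¹
            rw [← hc] at this
            simpa [mul_assoc] using this)
          have hk2 : k⁻¹ * C.out ∉ H := fun hk2 => hy (by
            have := hN.conj_mem _ hk2 d⁻¹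
            rw [← hd] at this
            simpa [mul_assoc] using this)
          rw [Subgroup.mul_mem_iff_of_index_two hidx, inv_mem_iff] at hk2
          tauto
        · rw [if_neg h2, mul_zero]
      · rw [if_neg h1, zero_mul]
  rw [H20.sameBlock_iff, H20.sameBlock_iff]
  by_cases h0 : ∀ x, x ∉ H → a x = 0
  · refine Or.inl fun g => ?_
    by_cases hg : g ∈ H
    · exact heven g hg
    · have h := hprod g g hg hg
      rw [h0 g hg, zero_mul, eq_comm, mul_self_eq_zero] at h
      exact (h0 g hg).trans h.symm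
  · obtain ⟨x, hx⟩ := not_forall.1 h0
    obtain ⟨hx, hax⟩ := Classical.not_imp.1 hx
    rcases mul_self_eq_mul_self_iff.1 (hprod x x hx hx) with h | h
    · refine Or.inl fun g => ?_
      by_cases hg : g ∈ H
      · exact heven g hg
      · have h2 := hprod x g hx hg
        rw [← h] at h2
        exact mul_left_cancel₀ hax h2
    · refine Or.inr fun g => ?_
      by_cases hg : g ∈ H
      · rw [(lam_twistSgn H hidx ψ g).1 hg]
        exact heven g hg
      · rw [(lam_twistSgn H hidx ψ g).2 hg]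
        have h2 := hprod x g hx hg
        rw [h, neg_mul, ← mul_neg] at h2
        have h3 : a' x ≠ 0 := fun e => hax (by rw [h, e, neg_zero])
        exact mul_left_cancel₀ h3 h2

omit hN in
theorem centralChar_irrCongr (e : H ≃* H) (χ : IrrCharacter H) (h : H) :
    centralChar (H12.irrCongr e χ : H → ℂ) h = centralChar (χ : H → ℂ) (e h) := by
  classical
  rw [centralChar_eq_sum, centralChar_eq_sum]
  congr 1
  · refine Fintype.sum_equiv e.toEquiv _ _ fun k => ?_
    simp only [H12.irrCongr_apply, MulEquiv.toEquiv_eq_coe, EquivLike.coe_coe]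
    by_cases hc : IsConj h k
    · rw [if_pos hc, if_pos (show IsConj (e h) (e k) from MonoidHom.map_isConj (e : H →* H) hc)]
    · rw [if_neg hc, if_neg]
      intro h'
      exact hc (by simpa using MonoidHom.map_isConj (e.symm : H →* H) h')
  · rw [H12.irrCongr_apply, map_one]

omit hN in
theorem isPBlock_image (e : H ≃* H) {B : Set (IrrCharacter H)} (hB : IsPBlock M B) :
    IsPBlock M (H12.irrCongr e '' B) ∧
      ∀ h : H, blockCoeff (H12.irrCongr e '' B) h = blockCoeff B (e h) := by
  classical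
  constructor
  · obtain ⟨χ₀, rfl⟩ := hB
    refine ⟨H12.irrCongr e χ₀, Set.ext fun φ => ?_⟩
    obtain ⟨φ₀, rfl⟩ := (H12.irrCongr e).surjective φ
    rw [(H12.irrCongr e).injective.mem_set_image]
    show (∀ h, _) ↔ ∀ h, _
    simp only [centralChar_irrCongr]
    exact ⟨fun h x => h (e x), fun h x => by simpa using h (e.symm x)⟩
  · intro h
    rw [H20.blockCoeff_eq_sum, H20.blockCoeff_eq_sum]
    congr 1
    rw [← Equiv.sum_comp (H12.irrCongr e)
      (fun φ : IrrCharacter H => if φ ∈ H12.irrCongr e '' B then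
        (φ : H → ℂ) 1 * (starRingEnd ℂ) ((φ : H → ℂ) h) else 0)]
    refine Finset.sum_congr rfl fun φ _ => ?_
    simp only [(H12.irrCongr e).injective.mem_set_image, H12.irrCongr_apply, map_one]

open Classical in
/-- Invariant central elements of the subgroup. -/
theorem lam_extend {ψ : IrrCharacter G} {χ : IrrCharacter H}
    (hχ : classInner (fun h : H => (ψ : G → ℂ) h) (χ : H → ℂ) ≠ 0)
    (z : MonoidAlgebra (H20.k M) H)
    (hz : ∀ (g : G) (n : H), z.coeff ⟨g * n * g⁻¹, hN.conj_mem n n.2 g⟩ = z.coeff n) :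
    H20.IsCl (H20.ofFun fun g : G => if hg : g ∈ H then z.coeff ⟨g, hg⟩ else 0) ∧
      H20.lam M ψ (H20.ofFun fun g : G => if hg : g ∈ H then z.coeff ⟨g, hg⟩ else 0) =
        H20.lam M χ z := by
  set σ : H → H20.O M := fun n => Function.surjInv H20.red_surjective (z.coeff n) with hσ
  have hσinv : ∀ (g : G) (n : H), σ ⟨g * n * g⁻¹, hN.conj_mem n n.2 g⟩ = σ n := fun g n => by
    simp only [hσ, hz g n]
  set bG : MonoidAlgebra (H20.O M) G :=
    H20.ofFun fun g : G => if hg : g ∈ H then σ ⟨g, hg⟩ else 0 with hbG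
  set bH : MonoidAlgebra (H20.O M) H := H20.ofFun σ with hbH
  have hG : H20.IsCl bG := by
    intro g c
    simp only [hbG, H20.coeff_ofFun]
    by_cases hg : g ∈ H
    · rw [dif_pos hg, dif_pos (hN.conj_mem g hg c)]
      exact hσinv c ⟨g, hg⟩
    · rw [dif_neg hg, dif_neg]
      intro h
      have := hN.conj_mem _ h c⁻¹
      exact hg (by simpa [mul_assoc] using this)
  have hH : H20.IsCl bH := fun n c => hσinv (c : G) n
  have hrdG : H20.rd bG = H20.ofFun fun g : G => if hg : g ∈ H then z.coeff ⟨g, hg⟩ else 0 := by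
    ext g
    simp only [H20.coeff_rd, hbG, H20.coeff_ofFun]
    split_ifs
    · exact Function.surjInv_eq H20.red_surjective _
    · exact map_zero _
  have hrdH : H20.rd bH = z := by
    ext n
    simp only [H20.coeff_rd, hbH, H20.coeff_ofFun]
    exact Function.surjInv_eq H20.red_surjective _
  rw [← hrdG]
  refine ⟨hG.rd, ?_⟩
  rw [H20.lam_rd ψ hG, ← hrdH, H20.lam_rd χ hH]
  congr 1
  rw [H20.omega, H20.omega, ← sum_mul_constituent H hχ (fun n => (H20.emb bH).coeff n)]
  · congr 1
    rw [← Finset.sum_subset (Finset.subset_univ (Finset.univ.filter (· ∈ H))) fun k _ hk => by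
      simp only [H20.coeff_emb, hbG, H20.coeff_ofFun]
      rw [dif_neg (by simpa using hk)]
      simp, Finset.sum_subtype (p := fun k => k ∈ H) (F := ‹Fintype H›) _ (fun k => by simp)]
    refine Finset.sum_congr rfl fun n _ => ?_
    simp only [H20.coeff_emb, hbG, hbH, H20.coeff_ofFun, dif_pos n.2]
  · intro g n
    simp only [H20.coeff_emb, hbH, H20.coeff_ofFun, hσinv g n]

include hidx in
/-- A `p`-subgroup centralised by the support of the idempotent of a covering block embeds in a
defect group. -/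
theorem exists_embedding {p : ℕ} (hM : IsPModular p M) {B : Set (IrrCharacter H)} (hB : IsPBlock M B)
    {D : Subgroup H} (hD : IsDefectGroup p M B D) {ψ : IrrCharacter G} {χ : IrrCharacter H}
    (hχB : χ ∈ B) (hχ : classInner (fun h : H => (ψ : G → ℂ) h) (χ : H → ℂ) ≠ 0)
    {g : G} (hg : (H20.eRed M (blockOf M (ψ : G → ℂ))).coeff g ≠ 0)
    {E : Subgroup G} (hE : IsPGroup p E) (hEH : E ≤ H) (hgE : g ∈ Subgroup.centralizer (E : Set G)) :
    ∃ f : E →* D, Function.Injective f := by
  classical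
  haveI : Fact p.Prime := ⟨hM.1⟩
  haveI := H20.k_charP hM
  obtain ⟨τ, hτ⟩ : ∃ τ : G, τ ∉ H := by
    by_contra h
    push Not at h
    rw [Subgroup.eq_top_iff' H |>.2 h, Subgroup.index_top] at hidx
    omega
  set e : H ≃* H := MulAut.conjNormal τ
  obtain ⟨hB', hcoef⟩ := isPBlock_image H e hB
  set B' := H12.irrCongr e '' B
  have hred : ∀ h : H, (H20.eRed M B').coeff h = (H20.eRed M B).coeff (e h) := fun h => by
    rw [H20.coeff_eRed, H20.coeff_eRed, hcoef]
  have hinner : ∀ (C : Set (IrrCharacter H)) (c h : H),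
      (H20.eRed M C).coeff (c * h * c⁻¹) = (H20.eRed M C).coeff h := fun C c h => H20.isCl_eRed C h c
  set z : MonoidAlgebra (H20.k M) H :=
    if B' = B then H20.eRed M B else H20.eRed M B + H20.eRed M B' with hz
  have hztau : ∀ n : H, z.coeff (e n) = z.coeff n := by
    intro n
    have h2 : (H20.eRed M B).coeff (e (e n)) = (H20.eRed M B).coeff n := by
      have hmem : τ * τ ∈ H := by
        rw [← pow_two]; exact Subgroup.sq_mem_of_index_two hidx τ
      rw [← hinner B ⟨τ * τ, hmem⟩ n]
      congr 1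
      refine Subtype.ext ?_
      show τ * (τ * n * τ⁻¹) * τ⁻¹ = τ * τ * n * (τ * τ)⁻¹
      group
    simp only [hz]
    split_ifs with h
    · conv_rhs => rw [← h]
      rw [hred]
    · simp only [MonoidAlgebra.coeff_add, Finsupp.add_apply, hred, h2]
      rw [add_comm]
  have hzinner : ∀ c n : H, z.coeff (c * n * c⁻¹) = z.coeff n := fun c n => by
    simp only [hz]
    split_ifs <;> simp [hinner]
  have hzinv : ∀ (c : G) (n : H), z.coeff ⟨c * n * c⁻¹, hN.conj_mem n n.2 c⟩ = z.coeff n := by
    intro c n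
    by_cases hc : c ∈ H
    · exact hzinner ⟨c, hc⟩ n
    · have hc' : c * τ⁻¹ ∈ H := by
        rw [Subgroup.mul_mem_iff_of_index_two hidx, inv_mem_iff]
        exact ⟨fun h => absurd h hc, fun h => absurd h hτ⟩
      have h := hzinner ⟨c * τ⁻¹, hc'⟩ (e n)
      rw [hztau] at h
      rw [← h]
      congr 1
      refine Subtype.ext ?_
      show c * n * c⁻¹ = c * τ⁻¹ * (τ * n * τ⁻¹) * (c * τ⁻¹)⁻¹
      group
  have hlam : H20.lam M χ z = 1 := by
    simp only [hz]
    split_ifs with h
    · rw [H20.lam_eRed hB, if_pos hχB]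
    · rw [H20.lam_add, H20.lam_eRed hB, if_pos hχB, H20.lam_eRed hB', if_neg fun h' =>
        h (H20.block_eq_of_mem hB' hB h' hχB), add_zero]
  obtain ⟨hZcl, hZlam⟩ := lam_extend H hχ z hzinv
  set Z := H20.ofFun fun g : G => if hg : g ∈ H then z.coeff ⟨g, hg⟩ else 0 with hZ
  set eB := H20.eRed M (blockOf M (ψ : G → ℂ)) with heB
  have hblk := H20.isPBlock_blockOf (M := M) ψ
  have hecl : H20.IsCl eB := H20.isCl_eRed _
  obtain ⟨m, hm⟩ := H20.isNilpotent_of_lam_eq_zero ((hecl.mul hZcl).sub hecl) fun φ => by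
    rw [H20.lam_sub, H20.lam_mul φ hecl hZcl, heB, H20.lam_eRed hblk]
    split_ifs with hφ
    · rw [← H20.lam_eq_of_sameBlock (hφ : SameBlock M (ψ : G → ℂ) (φ : G → ℂ)) Z, hZlam, hlam]
      ring
    · ring
  obtain ⟨h, hhC, hhne⟩ : ∃ h, h ∈ Subgroup.centralizer (E : Set G) ∧ Z.coeff h ≠ 0 := by
    by_contra hno
    simp only [not_exists, not_and, not_not] at hno
    have hbrZ : H20.br E Z = 0 := by
      ext x
      by_cases hx : x ∈ Subgroup.centralizer (E : Set G)
      · rw [H20.coeff_br_of_mem _ hx, hno x hx]; rfl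
      · rw [H20.coeff_br_of_notMem _ hx]; rfl
    have hu := (hecl.mul hZcl).sub hecl
    have hpow : ∀ i : ℕ, H20.br E ((eB * Z - eB) ^ i) = (H20.br E (eB * Z - eB)) ^ i := by
      intro i
      induction i with
      | zero => rw [pow_zero, pow_zero, H20.br_one]
      | succ i ih => rw [pow_succ, H20.br_mul hE ((hu.pow i).isInv E) (hu.isInv E), ih, pow_succ]
    have hbru : H20.br E (eB * Z - eB) = -H20.br E eB := by
      rw [H20.br_sub, H20.br_mul hE (hecl.isInv E) (hZcl.isInv E), hbrZ, mul_zero, zero_sub]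
    have hidem : H20.br E eB * H20.br E eB = H20.br E eB := by
      rw [← H20.br_mul hE (hecl.isInv E) (hecl.isInv E), heB, H20.eRed_mul_self hblk]
    have hipow : ∀ i : ℕ, (H20.br E eB) ^ (i + 1) = H20.br E eB := by
      intro i
      induction i with
      | zero => rw [zero_add, pow_one]
      | succ i ih => rw [pow_succ, ih, hidem]
    have h0 := hpow (m + 1)
    rw [pow_succ _ m, hm, zero_mul, H20.br_zero, hbru, neg_pow, hipow] at h0
    apply hg
    have hzero : H20.br E eB = 0 := by
      rcases neg_one_pow_eq_or (MonoidAlgebra (H20.k M) G) (m + 1) with hs | hs <;>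
        rw [hs] at h0 <;> simpa using h0.symm
    rw [← H20.coeff_br_of_mem eB hgE, hzero]
    rfl
  have hhH : h ∈ H := by
    by_contra hh
    simp [hZ, hh] at hhne
  have hzne : z.coeff ⟨h, hhH⟩ ≠ 0 := by simpa [hZ, hhH] using hhne
  obtain ⟨i, hi⟩ : ∃ i : H ≃* H, (H20.eRed M B).coeff (i ⟨h, hhH⟩) ≠ 0 := by
    simp only [hz] at hzne
    by_contra hno
    simp only [not_exists, not_not] at hno
    apply hzne
    split_ifs
    · simpa using hno (MulEquiv.refl H)
    · simp only [MonoidAlgebra.coeff_add, Finsupp.add_apply, hred]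
      rw [hno e, show (H20.eRed M B).coeff ⟨h, hhH⟩ = 0 by simpa using hno (MulEquiv.refl H),
        add_zero]
  let j : E →* H := (i : H →* H).comp (Subgroup.inclusion hEH)
  have hj : Function.Injective j := i.injective.comp (Subgroup.inclusion_injective hEH)
  have hR : IsPGroup p j.range := hE.of_surjective j.rangeRestrict j.rangeRestrict_surjective
  obtain ⟨x, hx⟩ := H20.sylC_le_defectGroup hM hB hD hi hR (by
    rintro _ ⟨a, rfl⟩
    show i (Subgroup.inclusion hEH a) * i ⟨h, hhH⟩ = i ⟨h, hhH⟩ * i (Subgroup.inclusion hEH a)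
    rw [← map_mul, ← map_mul]
    congr 1
    exact Subtype.ext (hhC a a.2))
  refine ⟨((MulAut.conj x⁻¹).toMonoidHom.comp j).codRestrict D fun a => ?_, fun a b hab => ?_⟩
  · have := H20.mem_conjSub_iff.1 (hx ⟨a, rfl⟩)
    simpa using this
  · exact hj ((MulAut.conj x⁻¹).injective (congrArg Subtype.val hab))

end H18.AltBlock
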