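import Cfsg.Agent.H12.Orth
import Cfsg.Agent.H12.Transport
import Cfsg.Agent.H13.Clifford

/-!
# Restriction to a subgroup of index two
-/

set_option autoImplicit false
set_option linter.unusedSectionVars false
set_option linter.style.haveILetI false

open Cfsg Finset
open scoped ComplexConjugate

namespace H18.AltBlock

universe u

variable {G : Type u} [Group G]

open Classical in
/-- The linear character with kernel a subgroup of index two. -/
noncomputable def sgnHom (H : Subgroup G) (hidx : H.index = 2) : G →* ℂˣ where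
  toFun g := if g ∈ H then 1 else -1
  map_one' := if_pos H.one_mem
  map_mul' a b := by
    by_cases ha : a ∈ H <;> by_cases hb : b ∈ H <;>
      simp [ha, hb, Subgroup.mul_mem_iff_of_index_two hidx]

open Classical in
theorem sgnHom_apply (H : Subgroup G) (hidx : H.index = 2) (g : G) :
    ((sgnHom H hidx g : ℂˣ) : ℂ) = if g ∈ H then 1 else -1 := by
  simp only [sgnHom, MonoidHom.coe_mk, OneHom.coe_mk]
  split_ifs <;> simp

theorem sgnHom_of_mem {H : Subgroup G} (hidx : H.index = 2) {g : G} (hg : g ∈ H) :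
    ((sgnHom H hidx g : ℂˣ) : ℂ) = 1 := by
  rw [sgnHom_apply, if_pos hg]

theorem sgnHom_of_not_mem {H : Subgroup G} (hidx : H.index = 2) {g : G} (hg : g ∉ H) :
    ((sgnHom H hidx g : ℂˣ) : ℂ) = -1 := by
  rw [sgnHom_apply, if_neg hg]

theorem sgnHom_sq (H : Subgroup G) (hidx : H.index = 2) (g : G) :
    ((sgnHom H hidx g : ℂˣ) : ℂ) * ((sgnHom H hidx g : ℂˣ) : ℂ) = 1 := by
  rw [sgnHom_apply]
  split_ifs <;> norm_num

theorem conj_sgnHom (H : Subgroup G) (hidx : H.index = 2) (g : G) :
    conj ((sgnHom H hidx g : ℂˣ) : ℂ) = ((sgnHom H hidx g : ℂˣ) : ℂ) := by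
  rw [sgnHom_apply]
  split_ifs <;> simp

variable [Fintype G] (H : Subgroup G) (hidx : H.index = 2)

theorem isIrrCharacter_sgn_mul (ψ : IrrCharacter G) :
    IsIrrCharacter G (fun g => ((sgnHom H hidx g : ℂˣ) : ℂ) * (ψ : G → ℂ) g) := by
  refine H12.isIrrCharacter_of_classInner_self_eq_one
    (H12.IsCharacter.mul (H12.isCharacter_monoidHom _) (H12.isCharacter_irr ψ)) ?_
  rw [← H12.classInner_irr_self ψ, H12.classInner_def, H12.classInner_def]
  congr 1
  refine Finset.sum_congr rfl fun g _ => ?_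
  rw [map_mul, conj_sgnHom]
  linear_combination ((ψ : G → ℂ) g * conj ((ψ : G → ℂ) g)) * sgnHom_sq H hidx g

/-- The product with the linear character. -/
noncomputable def twistSgn (ψ : IrrCharacter G) : IrrCharacter G :=
  ⟨_, isIrrCharacter_sgn_mul H hidx ψ⟩

theorem twistSgn_apply (ψ : IrrCharacter G) (g : G) :
    (twistSgn H hidx ψ : G → ℂ) g = ((sgnHom H hidx g : ℂˣ) : ℂ) * (ψ : G → ℂ) g := rfl

theorem twistSgn_twistSgn (ψ : IrrCharacter G) : twistSgn H hidx (twistSgn H hidx ψ) = ψ := by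
  refine Subtype.ext (funext fun g => ?_)
  rw [twistSgn_apply, twistSgn_apply, ← mul_assoc, sgnHom_sq, one_mul]

theorem res_twistSgn (ψ : IrrCharacter G) :
    (fun h : H => (twistSgn H hidx ψ : G → ℂ) h) = fun h : H => (ψ : G → ℂ) h := by
  funext h
  rw [twistSgn_apply, sgnHom_of_mem hidx h.2, one_mul]

variable [Fintype H]

include hidx in
theorem two_mul_card : 2 * Nat.card H = Nat.card G := by
  rw [← Subgroup.card_mul_index H, hidx, mul_comm]

theorem classInner_res (ψ : IrrCharacter G) :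
    classInner (fun h : H => (ψ : G → ℂ) h) (fun h : H => (ψ : G → ℂ) h) =
      classInner (ψ : G → ℂ) ψ + classInner (twistSgn H hidx ψ : G → ℂ) ψ := by
  classical
  rw [H12.classInner_def, H12.classInner_def, H12.classInner_def, ← mul_add,
    ← Finset.sum_add_distrib, ← two_mul_card H hidx]
  rw [show (∑ g : G, ((ψ : G → ℂ) g * conj ((ψ : G → ℂ) g) +
      (twistSgn H hidx ψ : G → ℂ) g * conj ((ψ : G → ℂ) g))) =
    ∑ g : G, if g ∈ H then 2 * ((ψ : G → ℂ) g * conj ((ψ : G → ℂ) g)) else 0 from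
      Finset.sum_congr rfl fun g _ => by
        rw [twistSgn_apply, sgnHom_apply]
        split_ifs <;> ring]
  rw [← Finset.sum_filter, Finset.sum_subtype (p := fun g => g ∈ H) (F := ‹Fintype H›) _
    (fun g => by simp), ← Finset.mul_sum]
  push_cast
  field_simp

/-- A constituent of a restriction: it is the restriction, or there is one other constituent. -/
theorem constituent_cases {ψ : IrrCharacter G} {χ : IrrCharacter H}
    (hχ : classInner (fun h : H => (ψ : G → ℂ) h) (χ : H → ℂ) ≠ 0) :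
    (twistSgn H hidx ψ ≠ ψ → (χ : H → ℂ) = fun h : H => (ψ : G → ℂ) h) ∧
      ∀ χ₀ : IrrCharacter H, classInner (fun h : H => (ψ : G → ℂ) h) (χ₀ : H → ℂ) ≠ 0 →
        χ = χ₀ ∨ (χ : H → ℂ) = (fun h : H => (ψ : G → ℂ) h) - (χ₀ : H → ℂ) := by
  classical
  obtain ⟨m, hm⟩ := H12.IsCharacter.exists_mult (H12.IsCharacter.res (H12.isCharacter_irr ψ) H)
  have hmult : ∀ φ : IrrCharacter H, classInner (fun h : H => (ψ : G → ℂ) h) (φ : H → ℂ) = m φ :=
    fun φ => by rw [hm, H12.classInner_sum_smul_irr]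
  have hnorm : (∑ φ, m φ * m φ : ℕ) = if twistSgn H hidx ψ = ψ then 2 else 1 := by
    have h := classInner_res H hidx ψ
    rw [hm, H12.classInner_sum_smul_sum_smul, H12.classInner_irr_self, H12.classInner_irr] at h
    have h2 : ((∑ φ, m φ * m φ : ℕ) : ℂ) =
        ((if twistSgn H hidx ψ = ψ then 2 else 1 : ℕ) : ℂ) := by
      push_cast
      rw [show (∑ φ, (m φ : ℂ) * (m φ : ℂ)) = ∑ φ, (m φ : ℂ) * conj (m φ : ℂ) by
        simp only [map_natCast], h]
      split_ifs <;> norm_num
    exact_mod_cast h2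
  rw [hmult, Nat.cast_ne_zero] at hχ
  have h1 : 1 ≤ m χ * m χ := Nat.mul_pos (Nat.pos_of_ne_zero hχ) (Nat.pos_of_ne_zero hχ)
  refine ⟨fun hne => ?_, fun χ₀ hχ₀ => ?_⟩
  · rw [if_neg hne] at hnorm
    have hsplit := Finset.add_sum_erase Finset.univ (fun φ => m φ * m φ) (Finset.mem_univ χ)
    simp only [hnorm] at hsplit
    have hone : m χ = 1 := Nat.eq_one_of_mul_eq_one_right (show m χ * m χ = 1 by omega)
    rw [hm, Finset.sum_eq_single χ]
    · rw [hone, Nat.cast_one, one_smul]
    · intro φ _ hφ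
      have := Finset.single_le_sum (f := fun φ => m φ * m φ) (fun _ _ => Nat.zero_le _)
        (Finset.mem_erase.2 ⟨hφ, Finset.mem_univ φ⟩)
      rw [mul_self_eq_zero.1 (show m φ * m φ = 0 by omega), Nat.cast_zero, zero_smul]
    · simp
  · by_cases he : χ = χ₀
    · exact Or.inl he
    refine Or.inr ?_
    rw [hmult, Nat.cast_ne_zero] at hχ₀
    have h2 : 1 ≤ m χ₀ * m χ₀ := Nat.mul_pos (Nat.pos_of_ne_zero hχ₀) (Nat.pos_of_ne_zero hχ₀)
    have hsplit := Finset.add_sum_erase Finset.univ (fun φ => m φ * m φ) (Finset.mem_univ χ)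
    have hsplit2 := Finset.add_sum_erase (Finset.univ.erase χ) (fun φ => m φ * m φ)
      (Finset.mem_erase.2 ⟨Ne.symm he, Finset.mem_univ χ₀⟩)
    have hle : (∑ φ, m φ * m φ) ≤ 2 := by rw [hnorm]; split_ifs <;> omega
    try simp only at hsplit hsplit2
    have hone : m χ = 1 := Nat.eq_one_of_mul_eq_one_right (show m χ * m χ = 1 by omega)
    have hone₀ : m χ₀ = 1 := Nat.eq_one_of_mul_eq_one_right (show m χ₀ * m χ₀ = 1 by omega)
    rw [hm, ← Finset.add_sum_erase _ _ (Finset.mem_univ χ),
      ← Finset.add_sum_erase (Finset.univ.erase χ) _ (Finset.mem_erase.2 ⟨Ne.symm he, Finset.mem_univ χ₀⟩),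
      Finset.sum_eq_zero, hone, hone₀, Nat.cast_one, one_smul, one_smul, add_zero, add_sub_cancel_right]
    intro φ hφ
    have := Finset.single_le_sum (f := fun φ => m φ * m φ) (fun _ _ => Nat.zero_le _) hφ
    rw [mul_self_eq_zero.1 (show m φ * m φ = 0 by omega), Nat.cast_zero, zero_smul]

include hidx in
/-- Every character of the subgroup lies under one of the group. -/
theorem exists_above (χ : IrrCharacter H) :
    ∃ ψ : IrrCharacter G, classInner (fun h : H => (ψ : G → ℂ) h) (χ : H → ℂ) ≠ 0 := by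
  classical
  by_contra hno
  simp only [not_exists, not_not] at hno
  have h0 : ∀ ψ : IrrCharacter G, classInner (indFun H (χ : H → ℂ)) (ψ : G → ℂ) = 0 := fun ψ => by
    rw [H13.classInner_indFun_left H _ (H12.irr_isClassFunction ψ), ← H12.conj_classInner, hno,
      map_zero]
  have hz := H12.eq_zero_of_classInner_irr_eq_zero
    (H13.indFun_isClassFunction H (χ : H → ℂ)) h0
  haveI := Subgroup.normal_of_index_eq_two hidx
  have h1 := congrArg (fun f : G → ℂ => fun n : H => f n) hz
  simp only [Pi.zero_apply] at h1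
  have h2 := H13.classInner_res_indFun H χ.2 χ.2
  rw [h1, show (fun _ : H => (0 : ℂ)) = (0 : H → ℂ) from rfl, H12.classInner_zero_left,
    eq_comm, mul_eq_zero, inv_eq_zero, Nat.cast_eq_zero, Nat.cast_eq_zero] at h2
  rcases h2 with h | h
  · exact Nat.card_pos.ne' h
  · haveI : Nonempty {x : G // H13.twist H x (χ : H → ℂ) = (χ : H → ℂ)} := ⟨⟨1, H13.twist_one H _⟩⟩
    exact Nat.card_pos.ne' h

include hidx in
/-- The degree above is the degree below or twice it. -/
theorem exists_degree_mul {ψ : IrrCharacter G} {χ : IrrCharacter H}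
    (hχ : classInner (fun h : H => (ψ : G → ℂ) h) (χ : H → ℂ) ≠ 0) :
    ∃ c : ℕ, c ∣ 2 ∧ H12.degree (ψ : G → ℂ) = c * H12.degree (χ : H → ℂ) := by
  classical
  haveI := Subgroup.normal_of_index_eq_two hidx
  obtain ⟨e, he⟩ := H12.IsCharacter.classInner_nat (H12.IsCharacter.res (H12.isCharacter_irr ψ) H)
    (H12.isCharacter_irr χ)
  set s : Finset (IrrCharacter H) := (Finset.univ : Finset (IrrCharacter H)).filter
    fun φ : IrrCharacter H => ∃ x, H13.twist H x (χ : H → ℂ) = (φ : H → ℂ) with hs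
  have hres := H13.clifford_res H ψ.2 χ.2 hχ s (fun φ => by simp [hs])
  rw [he] at hres
  have hnorm : e * e * #s = if twistSgn H hidx ψ = ψ then 2 else 1 := by
    have h := classInner_res H hidx ψ
    rw [hres, H12.classInner_smul_left, H12.classInner_smul_right, H12.classInner_sum_left,
      H12.classInner_irr_self, H12.classInner_irr] at h
    simp only [H12.classInner_sum_right, H12.classInner_irr, map_natCast] at h
    rw [Finset.sum_congr rfl (g := fun _ => (1 : ℂ)) (fun φ hφ => by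
      rw [Finset.sum_eq_single φ (fun φ' _ hne => if_neg (Ne.symm hne)) (fun hn => absurd hφ hn), if_pos rfl]),
      Finset.sum_const, nsmul_eq_mul, mul_one] at h
    have h2 : ((e * e * #s : ℕ) : ℂ) = ((if twistSgn H hidx ψ = ψ then 2 else 1 : ℕ) : ℂ) := by
      push_cast
      rw [mul_assoc, h]
      split_ifs <;> norm_num
    exact_mod_cast h2
  have hdvd : e * #s ∣ 2 := by
    refine Dvd.dvd.trans (Dvd.intro_left e (mul_assoc e e (#s)).symm) (b := e * e * #s) ?_
    rw [hnorm]
    split_ifs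
    · exact dvd_rfl
    · exact one_dvd 2
  refine ⟨e * #s, hdvd, ?_⟩
  have h1 := congrFun hres 1
  simp only [OneMemClass.coe_one, Pi.smul_apply, Finset.sum_apply, smul_eq_mul] at h1
  rw [Finset.sum_congr rfl (g := fun _ => (χ : H → ℂ) 1) (fun φ hφ => by
    obtain ⟨x, hx⟩ := (Finset.mem_filter.1 hφ).2
    rw [← hx]
    exact congrArg (χ : H → ℂ) (Subtype.ext (by simp))), Finset.sum_const, nsmul_eq_mul,
    H12.irr_apply_one, H12.irr_apply_one, ← mul_assoc] at h1
  exact_mod_cast h1

end H18.AltBlock
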