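import Cfsg.Agent.H18.SymBlock.Defect

/-!
# Elementary abelian groups of even permutations centralised by a defect class
-/

set_option autoImplicit false
set_option linter.unusedSectionVars false
set_option linter.style.haveILetI false

open Cfsg Finset H18.SymBlock

namespace H18.AltBlock

theorem exists_class_fixing {n N p : ℕ} [Fact p.Prime] {M : Ideal AlgInt} [M.IsPrime]
    (hM : IsPModular p M) {B : Set (IrrCharacter (Equiv.Perm (Fin n)))} (hB : IsPBlock M B)
    {b : Beta N (Fintype.card (Fin n))} (hb : irrOf b ∈ B) :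
    ∃ (g : Equiv.Perm (Fin n)) (m : ℕ)
      (e : ((Fin (weight p (b : Fin N → ℕ)) × Fin p) ⊕ Fin m) ≃ Fin n),
      (H20.eRed M B).coeff g ≠ 0 ∧ ∀ σ : Equiv.Perm (Fin (weight p (b : Fin N → ℕ)) × Fin p),
        g * e.permCongr (Equiv.sumCongr σ 1) = e.permCongr (Equiv.sumCongr σ 1) * g := by
  classical
  have hp := (Fact.out (p := p.Prime))
  haveI : NeZero p := ⟨hp.pos.ne'⟩
  obtain ⟨D, hD⟩ := H20.exists_defectGroup hM hB
  obtain ⟨m, hn, hm⟩ := exists_residual hp.pos b.2
  set w := weight p (b : Fin N → ℕ) with hw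
  have hne := chiS_cycles_ne_zero hp.pos b.2.1.injective hm
  rw [← hw] at hne
  let e : ((Fin w × Fin p) ⊕ Fin m) ≃ Fin n := Fintype.equivOfCardEq (by
    have := Fintype.card_fin n
    simp only [Fintype.card_sum, Fintype.card_prod, Fintype.card_fin]
    rw [mul_comm]
    omega)
  set v := e.permCongr (cycles p w m) with hv
  have hval : (irrOf b : Equiv.Perm (Fin n) → ℂ) v ≠ 0 := by
    obtain ⟨ε, hε, hb'⟩ := irrOf_spec b
    rw [hb', Pi.smul_apply, smul_eq_mul, hv, chiS, colSum_congr]
    refine mul_ne_zero ?_ hne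
    rcases hε with rfl | rfl <;> norm_num
  have hpow : v ^ p = 1 := by
    have h := translations_pow p w m (Multiplicative.ofAdd fun _ => 1)
    rw [translations_one] at h
    show e.permCongrHom (cycles p w m) ^ p = 1
    rw [← map_pow, h, map_one]
  have hpart : H20.pPart p v = v := H20.pPart_eq_self (by
    rcases (Nat.dvd_prime hp).1 (orderOf_dvd_of_pow_eq_one hpow) with h | h
    · exact ⟨0, by rw [h, pow_zero]⟩
    · exact ⟨1, by rw [h, pow_one]⟩)
  obtain ⟨D', hD', hmem⟩ : ∃ D', IsDefectGroup p M (blockOf M (irrOf b : Equiv.Perm (Fin n) → ℂ)) D' ∧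
      v ∈ D' := by
    by_contra h
    simp only [not_exists, not_and] at h
    exact hval (H20.irr_eq_zero_of_pPart_notMem hM _ fun D' hD' => by rw [hpart]; exact h D' hD')
  rw [← H20.block_eq_blockOf hB hb] at hD'
  obtain ⟨x, rfl⟩ := H20.defectGroup_conj hM hB hD hD'
  rw [H20.mem_conjSub_iff] at hmem
  obtain ⟨g, hg, hS⟩ := hD
  have hfix : ∀ a : Fin w × Fin p,
      g ((e.trans x⁻¹) (Sum.inl a)) = (e.trans x⁻¹) (Sum.inl a) := by
    intro a
    refine apply_eq_self_of_moved hM hB hg hS hmem fun h => ?_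
    simp only [hv, Equiv.Perm.mul_apply, Equiv.trans_apply, Equiv.permCongr_apply,
      EmbeddingLike.apply_eq_iff_eq, Equiv.Perm.coe_inv, Equiv.apply_symm_apply,
      Equiv.symm_apply_apply] at h
    rw [← translations_one] at h
    obtain ⟨i, t⟩ := a
    simp [translations] at h
    have := hp.two_le
    omega
  refine ⟨g, m, e.trans x⁻¹, ((H20.isDefectClass_iff hB g).1 hg).1, fun σ => Equiv.ext fun j => ?_⟩
  set e' := e.trans x⁻¹
  obtain ⟨z, rfl⟩ := e'.surjective j
  simp only [Equiv.Perm.mul_apply, Equiv.permCongr_apply, Equiv.symm_apply_apply]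
  rcases z with a | r
  · rw [Equiv.sumCongr_apply, Sum.map_inl, hfix, hfix, Equiv.symm_apply_apply, Equiv.sumCongr_apply,
      Sum.map_inl]
  · obtain ⟨z', hz'⟩ := e'.surjective (g (e' (Sum.inr r)))
    rw [← hz', Equiv.symm_apply_apply, Equiv.sumCongr_apply, Sum.map_inr, Equiv.Perm.one_apply, ← hz']
    rcases z' with a | r'
    · exfalso
      have h := g.injective ((hfix a).trans hz')
      simp at h
    · rw [Equiv.sumCongr_apply, Sum.map_inr, Equiv.Perm.one_apply]

/-- Translations in each row. -/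
def shiftHom (k : ℕ) (V : Type) [AddCommGroup V] :
    Multiplicative (Fin k → V) →* Equiv.Perm (Fin k × V) where
  toFun f := Equiv.prodCongrRight fun i => Equiv.addRight (Multiplicative.toAdd f i)
  map_one' := by
    refine Equiv.ext fun x => ?_
    simp [Equiv.prodCongrRight]
  map_mul' f g := by
    refine Equiv.ext fun x => ?_
    simp [Equiv.prodCongrRight, add_comm, add_left_comm]

theorem shiftHom_injective (k : ℕ) (V : Type) [AddCommGroup V] : Function.Injective (shiftHom k V) := by
  intro f g h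
  refine Multiplicative.toAdd.injective (funext fun i => ?_)
  simpa [shiftHom] using Equiv.Perm.congr_fun h (i, 0)

/-- Put the halves of two pairs side by side. -/
def pairEmb (w : ℕ) : Fin (w / 2) × (Fin 2 × Fin 2) ↪ Fin w × Fin 2 where
  toFun a := (⟨2 * (a.1 : ℕ) + a.2.1, by
    have := a.1.2
    have := a.2.1.2
    omega⟩, a.2.2)
  inj' a c h := by
    simp only [Prod.mk.injEq, Fin.mk.injEq] at h
    obtain ⟨h1, h2⟩ := h
    have := a.2.1.2
    have := c.2.1.2
    exact Prod.ext (Fin.ext (by omega)) (Prod.ext (Fin.ext (by omega)) h2)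

theorem sign_shift_klein (k : ℕ) (f : Multiplicative (Fin k → Fin 2 × Fin 2)) :
    Equiv.Perm.sign (shiftHom k (Fin 2 × Fin 2) f) = 1 := by
  have h : ∀ v : Fin 2 × Fin 2, Equiv.Perm.sign (Equiv.addRight v) = 1 := by decide
  show Equiv.Perm.sign (Equiv.prodCongrRight fun i => Equiv.addRight (Multiplicative.toAdd f i)) = 1
  rw [Equiv.Perm.sign_prodCongrRight]
  exact Finset.prod_eq_one fun i _ => h _

theorem two_nsmul_klein : ∀ v : Fin 2 × Fin 2, 2 • v = 0 := by decide

theorem exists_even_elementary (w p : ℕ) [Fact p.Prime] :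
    ∃ (r : ℕ) (A : Subgroup (Equiv.Perm (Fin w × Fin p))),
      r = (if p = 2 then 2 * (w / 2) else w) ∧ IsPGroup p A ∧
      (∀ a ∈ A, Equiv.Perm.sign a = 1) ∧ (∀ a ∈ A, ∀ b ∈ A, a * b = b * a) ∧
      (∀ a ∈ A, a ^ p = 1) ∧ Nat.card A = p ^ r := by
  have hp := (Fact.out (p := p.Prime))
  haveI : NeZero p := ⟨hp.pos.ne'⟩
  suffices h : ∃ (r : ℕ) (T : Type) (_ : CommGroup T) (f : T →* Equiv.Perm (Fin w × Fin p)),
      r = (if p = 2 then 2 * (w / 2) else w) ∧ Function.Injective f ∧
      (∀ t : T, Equiv.Perm.sign (f t) = 1) ∧ (∀ t : T, t ^ p = 1) ∧ Nat.card T = p ^ r by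
    obtain ⟨r, T, hT, f, hr, hinj, hsgn, hpow, hcard⟩ := h
    have hc : Nat.card f.range = p ^ r := by
      rw [← Nat.card_congr (MonoidHom.ofInjective hinj).toEquiv, hcard]
    refine ⟨r, f.range, hr, IsPGroup.of_card hc, ?_, ?_, ?_, hc⟩
    · rintro _ ⟨t, rfl⟩; exact hsgn t
    · rintro _ ⟨t, rfl⟩ _ ⟨u, rfl⟩; rw [← map_mul, ← map_mul, mul_comm]
    · rintro _ ⟨t, rfl⟩; rw [← map_pow, hpow, map_one]
  by_cases h2 : p = 2
  · subst h2
    refine ⟨2 * (w / 2), Multiplicative (Fin (w / 2) → Fin 2 × Fin 2), inferInstance,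
      (Equiv.Perm.viaEmbeddingHom (pairEmb w)).comp (shiftHom (w / 2) (Fin 2 × Fin 2)),
      by simp, (Equiv.Perm.viaEmbeddingHom_injective _).comp (shiftHom_injective _ _), ?_, ?_, ?_⟩
    · intro t
      show Equiv.Perm.sign (Equiv.Perm.viaEmbedding (shiftHom (w / 2) (Fin 2 × Fin 2) t) (pairEmb w)) = 1
      rw [Equiv.Perm.viaEmbedding, Equiv.Perm.sign_extendDomain, sign_shift_klein]
    · intro t
      refine Multiplicative.toAdd.injective (funext fun i => ?_)
      rw [toAdd_pow, Pi.smul_apply, toAdd_one, Pi.zero_apply]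
      exact two_nsmul_klein _
    · rw [Nat.card_congr (Multiplicative.toAdd (α := Fin (w / 2) → Fin 2 × Fin 2)), Nat.card_fun,
        Nat.card_prod, Nat.card_fin, Nat.card_fin, pow_mul]
      norm_num
  · refine ⟨w, Multiplicative (Fin w → Fin p), inferInstance, shiftHom w (Fin p),
      by rw [if_neg h2], shiftHom_injective _ _, ?_, ?_, ?_⟩
    rotate_left
    · intro t
      refine Multiplicative.toAdd.injective (funext fun i => ?_)
      rw [toAdd_pow, Pi.smul_apply, toAdd_one, Pi.zero_apply]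
      have h := card_nsmul_eq_zero' (x := Multiplicative.toAdd t i)
      rwa [Nat.card_fin] at h
    · rw [Nat.card_congr (Multiplicative.toAdd (α := Fin w → Fin p)), Nat.card_fun, Nat.card_fin,
        Nat.card_fin]
    · intro t
      have hodd : Odd p := hp.odd_of_ne_two h2
      have hp1 : Equiv.Perm.sign (shiftHom w (Fin p) t) ^ p = 1 := by
        rw [← map_pow, ← map_pow, show t ^ p = 1 from Multiplicative.toAdd.injective (funext fun i => by
          rw [toAdd_pow, Pi.smul_apply, toAdd_one, Pi.zero_apply]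
          have h := card_nsmul_eq_zero' (x := Multiplicative.toAdd t i)
          rwa [Nat.card_fin] at h), map_one, map_one]
      rcases Int.units_eq_one_or (Equiv.Perm.sign (shiftHom w (Fin p) t)) with h | h
      · exact h
      · rw [h, hodd.neg_one_pow] at hp1
        exact absurd hp1 (by decide)

end H18.AltBlock
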