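import Cfsg.Agent.H18.SymBlock.Rank
import Cfsg.Agent.H18.AltBlock.Cover
import Cfsg.Agent.H18.AltBlock.Count
import Cfsg.Agent.H18.AltBlock.Support
import Mathlib.GroupTheory.SpecificGroups.Alternating

/-!
# The rank of a block of an alternating group
-/

set_option autoImplicit false
set_option linter.unusedSectionVars false
set_option linter.style.haveILetI false

open Cfsg Finset H18.SymBlock

namespace H18.AltBlock

variable {n : ℕ} {p : ℕ}

/-- The exponent vector of an irreducible character of a symmetric group. -/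
noncomputable def betaOf : IrrCharacter (Equiv.Perm (Fin n)) ≃ Beta n (Fintype.card (Fin n)) :=
  (Equiv.ofBijective _ (irrOf_bijective (α := Fin n) (N := n) (Fintype.card_fin n).le)).symm

theorem irrOf_betaOf (ψ : IrrCharacter (Equiv.Perm (Fin n))) : irrOf (betaOf ψ) = ψ :=
  (Equiv.ofBijective _ (irrOf_bijective (α := Fin n) (N := n) (Fintype.card_fin n).le)).apply_symm_apply ψ

theorem betaOf_irrOf (b : Beta n (Fintype.card (Fin n))) : betaOf (irrOf b) = b :=
  (Equiv.ofBijective _ (irrOf_bijective (α := Fin n) (N := n) (Fintype.card_fin n).le)).symm_apply_apply b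

/-- The configuration of an irreducible character of a symmetric group. -/
noncomputable def confOf (ψ : IrrCharacter (Equiv.Perm (Fin n))) : Finset ℕ :=
  (Finset.univ : Finset (Fin n)).image (betaOf ψ : Fin n → ℕ)

theorem confOf_injective : Function.Injective (confOf (n := n)) := by
  intro ψ φ h
  refine betaOf.injective (Subtype.ext (((betaOf ψ).2.1.range_inj (betaOf φ).2.1).1 ?_))
  have := congrArg (fun S : Finset ℕ => (S : Set ℕ)) h
  simpa [confOf] using this

theorem confOf_subset (ψ : IrrCharacter (Equiv.Perm (Fin n))) {x : ℕ} (hx : x ∈ confOf ψ) :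
    x < 2 * n := by
  obtain ⟨i, -, rfl⟩ := Finset.mem_image.1 hx
  have := beta_lt (betaOf ψ).2 i
  have := Fintype.card_fin n
  omega

theorem confOf_map_res (ψ : IrrCharacter (Equiv.Perm (Fin n))) :
    (confOf ψ).val.map (· % p) = (Finset.univ : Finset (Fin n)).val.map (res p (betaOf ψ : Fin n → ℕ)) := by
  rw [confOf, Finset.image_val_of_injOn (betaOf ψ).2.1.injective.injOn, Multiset.map_map]
  rfl

open Classical in
/-- The characters of given residues and weight. -/
noncomputable def charsOf (n p w : ℕ) (R : Multiset ℕ) : Finset (IrrCharacter (Equiv.Perm (Fin n))) :=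
  Finset.univ.filter fun ψ => Good p (Fintype.card (Fin n)) w R (betaOf ψ : Fin n → ℕ)

theorem mem_charsOf {w : ℕ} {R : Multiset ℕ} {ψ : IrrCharacter (Equiv.Perm (Fin n))} :
    ψ ∈ charsOf n p w R ↔ Good p (Fintype.card (Fin n)) w R (betaOf ψ : Fin n → ℕ) := by
  simp [charsOf]

theorem conf_of_mem {w : ℕ} {R : Multiset ℕ} {ψ : IrrCharacter (Equiv.Perm (Fin n))}
    (h : ψ ∈ charsOf n p w R) : (confOf ψ).val.map (· % p) = R ∧ wt p (confOf ψ) = w := by
  obtain ⟨hinj, -, hw, hR⟩ := mem_charsOf.1 h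
  exact ⟨(confOf_map_res ψ).trans hR, (wt_image hinj).trans hw⟩

theorem mem_charsOf_of_res [Fact p.Prime] {w : ℕ} {R : Multiset ℕ}
    {ψ φ : IrrCharacter (Equiv.Perm (Fin n))} (hφ : φ ∈ charsOf n p w R)
    (h : (confOf ψ).val.map (· % p) = R) : ψ ∈ charsOf n p w R := by
  obtain ⟨hinj, hsum, hw, hR⟩ := mem_charsOf.1 hφ
  rw [confOf_map_res] at h
  refine mem_charsOf.2 ⟨(betaOf ψ).2.1.injective, (betaOf ψ).2.2, ?_, h⟩
  rw [← hw]
  exact weight_congr (Fact.out (p := p.Prime)).pos (betaOf ψ).2.1.injective hinj (h.trans hR.symm)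
    ((betaOf ψ).2.2.trans hsum.symm)

theorem map_refl' (hp : 0 < p) {M : ℕ} {S T : Finset ℕ} (hS : ∀ x ∈ S, x < M) (hT : ∀ x ∈ T, x < M)
    (h : S.val.map (· % p) = T.val.map (· % p)) :
    (refl' M S).val.map (· % p) = (refl' M T).val.map (· % p) := by
  classical
  refine Multiset.ext.2 fun a => ?_
  rw [Multiset.count_map, Multiset.count_map]
  show #((refl' M S).filter fun x => a = x % p) = #((refl' M T).filter fun x => a = x % p)
  rcases lt_or_ge a p with ha | ha
  swap
  · rw [Finset.filter_eq_empty_iff.2, Finset.filter_eq_empty_iff.2] <;>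
      exact fun x _ e => absurd (Nat.mod_lt x hp) (by omega)
  set U := (Finset.range M).filter fun z => z % p = mr p M a with hU
  have key : ∀ A : Finset ℕ, (∀ x ∈ A, x < M) →
      #((refl' M A).filter fun x => a = x % p) + #(A.filter fun x => mr p M a = x % p) = #U := by
    intro A hA
    have h1 : #((refl' M A).filter fun x => a = x % p) = #(U \ A) := by
      refine Finset.card_bij' (fun x _ => M - 1 - x) (fun z _ => M - 1 - z) ?_ ?_ ?_ ?_
      · intro x hx
        obtain ⟨hx, hxa⟩ := Finset.mem_filter.1 hx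
        obtain ⟨hxM, hn⟩ := mem_refl'.1 hx
        refine Finset.mem_sdiff.2 ⟨Finset.mem_filter.2 ⟨Finset.mem_range.2 (by omega), ?_⟩, hn⟩
        rw [mirror_mod hp hxM, ← hxa]
      · intro z hz
        obtain ⟨hzU, hzA⟩ := Finset.mem_sdiff.1 hz
        obtain ⟨hzM, hzr⟩ := Finset.mem_filter.1 hzU
        rw [Finset.mem_range] at hzM
        refine Finset.mem_filter.2 ⟨mem_refl'.2 ⟨by omega, ?_⟩, ?_⟩
        · rwa [show M - 1 - (M - 1 - z) = z by omega]
        · rw [mirror_mod hp hzM, hzr, mr_mr hp M ha]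
      · intro x hx
        have := (mem_refl'.1 (Finset.mem_filter.1 hx).1).1
        show M - 1 - (M - 1 - x) = x
        omega
      · intro z hz
        have := Finset.mem_range.1 (Finset.mem_filter.1 (Finset.mem_sdiff.1 hz).1).1
        show M - 1 - (M - 1 - z) = z
        omega
    rw [h1, show (A.filter fun x => mr p M a = x % p) = U ∩ A by
      ext z
      simp only [hU, Finset.mem_inter, Finset.mem_filter, Finset.mem_range]
      exact ⟨fun hz => ⟨⟨hA z hz.1, hz.2.symm⟩, hz.1⟩, fun hz => ⟨hz.2, hz.1.2.symm⟩⟩,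
      Finset.card_sdiff_add_card_inter]
  have e1 := key S hS
  have e2 := key T hT
  have e3 := congrArg (Multiset.count (mr p M a)) h
  rw [Multiset.count_map, Multiset.count_map] at e3
  change #(S.filter fun x => mr p M a = x % p) = #(T.filter fun x => mr p M a = x % p) at e3
  omega

theorem pRegularPart_irr (ψ : IrrCharacter (Equiv.Perm (Fin n))) :
    ∃ ε : ℂ, (ε = 1 ∨ ε = -1) ∧ pRegularPart p (ψ : Equiv.Perm (Fin n) → ℂ) =
      ε • (regPart p (betaOf ψ : Fin n → ℕ) : Equiv.Perm (Fin n) → ℂ) := by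
  obtain ⟨ε, hε, h⟩ := irrOf_spec (betaOf ψ)
  rw [irrOf_betaOf] at h
  refine ⟨ε, hε, funext fun g => ?_⟩
  rw [Pi.smul_apply, regPart, pRegularPart, pRegularPart, h, smul_eq_mul]
  split_ifs
  · rfl
  · rw [mul_zero]

/-- Every block of the symmetric group lies in one such set. -/
theorem mem_charsOf_of_sameBlock [Fact p.Prime] {M : Ideal AlgInt} [M.IsPrime] (hM : IsPModular p M)
    {ψ φ : IrrCharacter (Equiv.Perm (Fin n))}
    (h : SameBlock M (ψ : Equiv.Perm (Fin n) → ℂ) (φ : Equiv.Perm (Fin n) → ℂ)) :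
    φ ∈ charsOf n p (weight p (betaOf ψ : Fin n → ℕ))
      ((Finset.univ : Finset (Fin n)).val.map (res p (betaOf ψ : Fin n → ℕ))) := by
  haveI : NeZero p := ⟨(Fact.out (p := p.Prime)).pos.ne'⟩
  have hcls := cls_eq_of_sameBlock (b := betaOf ψ) (b' := betaOf φ) hM (by rw [irrOf_betaOf, irrOf_betaOf]; exact h)
  have hres := (map_res_eq_of_cls hcls).symm
  exact mem_charsOf.2 ⟨(betaOf φ).2.1.injective, (betaOf φ).2.2,
    weight_congr (Fact.out (p := p.Prime)).pos (betaOf φ).2.1.injective (betaOf ψ).2.1.injective hres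
      ((betaOf φ).2.2.trans (betaOf ψ).2.2.symm), hres⟩

theorem sgnHom_eq_sign (hidx : (alternatingGroup (Fin n)).index = 2) (g : Equiv.Perm (Fin n)) :
    ((sgnHom (alternatingGroup (Fin n)) hidx g : ℂˣ) : ℂ) = ((Equiv.Perm.sign g : ℤ) : ℂ) := by
  rw [sgnHom_apply]
  rcases Int.units_eq_one_or (Equiv.Perm.sign g) with h | h <;> simp [h]

theorem confOf_twist (hidx : (alternatingGroup (Fin n)).index = 2)
    (ψ : IrrCharacter (Equiv.Perm (Fin n))) :
    confOf (twistSgn (alternatingGroup (Fin n)) hidx ψ) = refl' (2 * n) (confOf ψ) :=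
  image_of_twist fun g => by rw [irrOf_betaOf, irrOf_betaOf, twistSgn_apply, sgnHom_eq_sign]

variable (hidx : (alternatingGroup (Fin n)).index = 2)

theorem isSC_of_self {w : ℕ} {R : Multiset ℕ} {ψ : IrrCharacter (Equiv.Perm (Fin n))}
    (hψ : ψ ∈ charsOf n p w R) (hself : twistSgn (alternatingGroup (Fin n)) hidx ψ = ψ) :
    IsSC p (2 * n) R w (confOf ψ) := by
  obtain ⟨h1, h2⟩ := conf_of_mem hψ
  refine ⟨h1, ?_, h2⟩
  rw [← confOf_twist hidx, hself]

theorem twist_mem_charsOf [Fact p.Prime] {w : ℕ} {R : Multiset ℕ}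
    {ψ₀ ψ : IrrCharacter (Equiv.Perm (Fin n))} (h₀ : ψ₀ ∈ charsOf n p w R)
    (hself : twistSgn (alternatingGroup (Fin n)) hidx ψ₀ = ψ₀) (hψ : ψ ∈ charsOf n p w R) :
    twistSgn (alternatingGroup (Fin n)) hidx ψ ∈ charsOf n p w R := by
  refine mem_charsOf_of_res hψ ?_
  rw [confOf_twist, map_refl' (Fact.out (p := p.Prime)).pos (fun x => confOf_subset ψ)
    (fun x => confOf_subset ψ₀) ((conf_of_mem hψ).1.trans (conf_of_mem h₀).1.symm), ← confOf_twist hidx,
    hself]
  exact (conf_of_mem h₀).1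

/-- The regular part of a restriction. -/
noncomputable def resReg (p : ℕ) (ψ : IrrCharacter (Equiv.Perm (Fin n))) : alternatingGroup (Fin n) → ℂ :=
  LinearMap.funLeft ℂ ℂ (Subtype.val : alternatingGroup (Fin n) → Equiv.Perm (Fin n))
    (pRegularPart p (ψ : Equiv.Perm (Fin n) → ℂ))

theorem resReg_eq (ψ : IrrCharacter (Equiv.Perm (Fin n))) :
    resReg p ψ = pRegularPart p (fun h : alternatingGroup (Fin n) => (ψ : Equiv.Perm (Fin n) → ℂ) h) := by
  funext h
  show pRegularPart p (ψ : Equiv.Perm (Fin n) → ℂ) (h : Equiv.Perm (Fin n)) = _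
  unfold pRegularPart IsPRegular
  simp only [Subgroup.orderOf_coe]

theorem pRegularPart_sub {K : Type} [Group K] (f f' : K → ℂ) :
    pRegularPart p (f - f') = pRegularPart p f - pRegularPart p f' := by
  funext k
  unfold pRegularPart
  rw [Pi.sub_apply]
  split_ifs with h <;> simp [h]

open Classical in
/-- A block is spanned by restrictions and one constituent for each self-associate character. -/
theorem blockRank_le [Fact p.Prime] {M : Ideal AlgInt} [M.IsPrime] (hM : IsPModular p M)
    {B : Set (IrrCharacter (alternatingGroup (Fin n)))} (hB : IsPBlock M B)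
    {χ₀ : IrrCharacter (alternatingGroup (Fin n))} (hχ₀ : χ₀ ∈ B)
    {ψ₀ : IrrCharacter (Equiv.Perm (Fin n))}
    (hψ₀ : classInner (fun h : alternatingGroup (Fin n) => (ψ₀ : Equiv.Perm (Fin n) → ℂ) h)
      (χ₀ : alternatingGroup (Fin n) → ℂ) ≠ 0) {w : ℕ} {R : Multiset ℕ}
    (hw : w = weight p (betaOf ψ₀ : Fin n → ℕ))
    (hR : R = (Finset.univ : Finset (Fin n)).val.map (res p (betaOf ψ₀ : Fin n → ℕ))) :
    blockRank p B ≤ Module.finrank ℂ (Submodule.span ℂ
        (resReg p '' (charsOf n p w R : Set (IrrCharacter (Equiv.Perm (Fin n)))))) +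
      #((charsOf n p w R).filter fun ψ => twistSgn (alternatingGroup (Fin n)) hidx ψ = ψ) := by
  subst hw hR
  haveI := Subgroup.normal_of_index_eq_two hidx
  set K := charsOf n p (weight p (betaOf ψ₀ : Fin n → ℕ))
    ((Finset.univ : Finset (Fin n)).val.map (res p (betaOf ψ₀ : Fin n → ℕ))) with hK
  set A := K.filter fun ψ => twistSgn (alternatingGroup (Fin n)) hidx ψ = ψ with hA
  have hsel : ∀ ψ : IrrCharacter (Equiv.Perm (Fin n)), ∃ θ : IrrCharacter (alternatingGroup (Fin n)),
      classInner (fun h : (alternatingGroup (Fin n)) => (ψ : Equiv.Perm (Fin n) → ℂ) h) (θ : (alternatingGroup (Fin n)) → ℂ) ≠ 0 := fun ψ =>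
    H13.exists_constituent (alternatingGroup (Fin n)) (H12.isCharacter_irr ψ) fun h0 =>
      H12.irr_apply_one_ne_zero ψ (congrFun h0 1)
  choose sel hsel using hsel
  have hle : Submodule.span ℂ ((fun χ : IrrCharacter (alternatingGroup (Fin n)) => pRegularPart p (χ : (alternatingGroup (Fin n)) → ℂ)) '' B) ≤
      Submodule.span ℂ (resReg p '' (K : Set (IrrCharacter (Equiv.Perm (Fin n))))) ⊔
        Submodule.span ℂ ((A.image fun ψ => pRegularPart p (sel ψ : (alternatingGroup (Fin n)) → ℂ)) : Set ((alternatingGroup (Fin n)) → ℂ)) := by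
    rw [Submodule.span_le]
    rintro _ ⟨χ, hχ, rfl⟩
    obtain ⟨ψ, hψK, hψ⟩ : ∃ ψ, ψ ∈ K ∧
        classInner (fun h : (alternatingGroup (Fin n)) => (ψ : Equiv.Perm (Fin n) → ℂ) h) (χ : (alternatingGroup (Fin n)) → ℂ) ≠ 0 := by
      obtain ⟨φ, hφ⟩ := exists_above (alternatingGroup (Fin n)) hidx χ
      rcases sameBlock_or_twist (alternatingGroup (Fin n)) hidx hψ₀ hφ (H20.sameBlock_of_mem hB hχ₀ hχ) with h | h
      · exact ⟨φ, mem_charsOf_of_sameBlock hM h, hφ⟩
      · refine ⟨twistSgn (alternatingGroup (Fin n)) hidx φ, mem_charsOf_of_sameBlock hM ?_, by rw [res_twistSgn]; exact hφ⟩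
        rw [H20.sameBlock_iff] at h ⊢
        intro g
        have hg := h g
        by_cases hgH : g ∈ (alternatingGroup (Fin n))
        · rw [(lam_twistSgn (alternatingGroup (Fin n)) hidx _ g).1 hgH] at hg ⊢
          exact hg
        · rw [(lam_twistSgn (alternatingGroup (Fin n)) hidx _ g).2 hgH] at hg ⊢
          rw [← hg, neg_neg]
    have hres : resReg p ψ ∈ Submodule.span ℂ (resReg p '' (K : Set (IrrCharacter (Equiv.Perm (Fin n))))) :=
      Submodule.subset_span ⟨ψ, hψK, rfl⟩
    obtain ⟨h1, h2⟩ := constituent_cases (alternatingGroup (Fin n)) hidx hψ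
    show pRegularPart p (χ : (alternatingGroup (Fin n)) → ℂ) ∈ _
    by_cases hself : twistSgn (alternatingGroup (Fin n)) hidx ψ = ψ
    · have hmem : pRegularPart p (sel ψ : (alternatingGroup (Fin n)) → ℂ) ∈
          Submodule.span ℂ ((A.image fun ψ => pRegularPart p (sel ψ : (alternatingGroup (Fin n)) → ℂ)) : Set ((alternatingGroup (Fin n)) → ℂ)) :=
        Submodule.subset_span (Finset.mem_coe.2 (Finset.mem_image.2
          ⟨ψ, Finset.mem_filter.2 ⟨hψK, hself⟩, rfl⟩))
      rcases h2 (sel ψ) (hsel ψ) with h | h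
      · rw [h]; exact Submodule.mem_sup_right hmem
      · rw [h, pRegularPart_sub, ← resReg_eq]
        exact Submodule.sub_mem _ (Submodule.mem_sup_left hres) (Submodule.mem_sup_right hmem)
    · rw [h1 hself, ← resReg_eq]
      exact Submodule.mem_sup_left hres
  exact (Submodule.finrank_mono hle).trans ((Submodule.finrank_add_le_finrank_add_finrank _ _).trans
    (Nat.add_le_add_left ((finrank_span_finset_le_card _).trans Finset.card_image_le) _))

theorem finrank_resReg_le {w : ℕ} {R : Multiset ℕ} (hp : 2 ≤ p) {F : Finset (Finset ℕ)}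
    (hF : ∀ S, IsFam p R w S → S ∈ F) :
    Module.finrank ℂ (Submodule.span ℂ
      (resReg p '' (charsOf n p w R : Set (IrrCharacter (Equiv.Perm (Fin n)))))) ≤ #F := by
  set L := LinearMap.funLeft ℂ ℂ (Subtype.val : alternatingGroup (Fin n) → Equiv.Perm (Fin n))
  have hle : Submodule.span ℂ (resReg p '' (charsOf n p w R : Set (IrrCharacter (Equiv.Perm (Fin n))))) ≤
      (Submodule.span ℂ ((fun e : Fin n → ℕ => (regPart p e : Equiv.Perm (Fin n) → ℂ)) ''
        {e | Good p (Fintype.card (Fin n)) w R e})).map L := by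
    rw [Submodule.span_le]
    rintro _ ⟨ψ, hψ, rfl⟩
    obtain ⟨ε, -, h⟩ := pRegularPart_irr (p := p) ψ
    refine Submodule.mem_map.2 ⟨_, Submodule.smul_mem _ ε
      (Submodule.subset_span ⟨_, mem_charsOf.1 (Finset.mem_coe.1 hψ), rfl⟩), ?_⟩
    show L _ = L _
    rw [h]
  exact (Submodule.finrank_mono hle).trans ((Submodule.finrank_map_le _ _).trans
    (finrank_span_le_of_cover hp (Fintype.card_fin n).le w R hF))

open Classical in
theorem card_self_le {w : ℕ} {R : Multiset ℕ} {F : Finset (Finset ℕ)}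
    (hF : ∀ S, IsSC p (2 * n) R w S → S ∈ F) :
    #((charsOf n p w R).filter fun ψ => twistSgn (alternatingGroup (Fin n)) hidx ψ = ψ) ≤ #F :=
  Finset.card_le_card_of_injOn confOf
    (fun ψ hψ => hF _ (isSC_of_self hidx (Finset.mem_filter.1 hψ).1 (Finset.mem_filter.1 hψ).2))
    confOf_injective.injOn

open Classical in
/-- In weight one a self-associate character saves more than it costs. -/
theorem weight_one_bound [Fact p.Prime] (hp3 : 3 ≤ p) (R : Multiset ℕ)
    {ψ₀ : IrrCharacter (Equiv.Perm (Fin n))} (h₀ : ψ₀ ∈ charsOf n p 1 R)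
    (hself : twistSgn (alternatingGroup (Fin n)) hidx ψ₀ = ψ₀)
    (hA : #((charsOf n p 1 R).filter fun ψ => twistSgn (alternatingGroup (Fin n)) hidx ψ = ψ) ≤ 1) :
    2 * Module.finrank ℂ (Submodule.span ℂ
      (resReg p '' (charsOf n p 1 R : Set (IrrCharacter (Equiv.Perm (Fin n)))))) + 1 ≤ p := by
  have hp0 : 0 < p := by omega
  set K := charsOf n p 1 R with hK
  set O := K.erase ψ₀ with hO
  have honly : ∀ ψ ∈ K, twistSgn (alternatingGroup (Fin n)) hidx ψ = ψ → ψ = ψ₀ := fun ψ hψ hs =>
    Finset.card_le_one.1 hA ψ (Finset.mem_filter.2 ⟨hψ, hs⟩) ψ₀ (Finset.mem_filter.2 ⟨h₀, hself⟩)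
  have hKcard : #K ≤ p := by
    obtain ⟨F, hF, hFc⟩ := exists_weight_one hp0 R
    exact le_trans (Finset.card_le_card_of_injOn confOf
      (fun ψ hψ => hF _ (conf_of_mem hψ).1 (conf_of_mem hψ).2) confOf_injective.injOn) hFc
  have hOcard : #O + 1 ≤ p := by
    rw [hO, Finset.card_erase_add_one h₀]
    exact hKcard
  have hhalf : #(O.image (resReg p)) * 2 ≤ #O := by
    rw [mul_comm]
    refine Finset.mul_card_image_le_card (f := resReg p) O 2 fun a ha => ?_
    obtain ⟨ψ, hψ, rfl⟩ := Finset.mem_image.1 ha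
    obtain ⟨hne, hψK⟩ := Finset.mem_erase.1 hψ
    have htne : twistSgn (alternatingGroup (Fin n)) hidx ψ ≠ ψ := fun h => hne (honly ψ hψK h)
    have htO : twistSgn (alternatingGroup (Fin n)) hidx ψ ∈ O := by
      refine Finset.mem_erase.2 ⟨fun h => hne ?_, twist_mem_charsOf hidx h₀ hself hψK⟩
      rw [← twistSgn_twistSgn (alternatingGroup (Fin n)) hidx ψ, h, hself]
    refine Finset.one_lt_card.2 ⟨ψ, Finset.mem_filter.2 ⟨hψ, rfl⟩, twistSgn (alternatingGroup (Fin n)) hidx ψ,
      Finset.mem_filter.2 ⟨htO, ?_⟩, htne.symm⟩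
    rw [resReg_eq, resReg_eq, res_twistSgn]
  have hsave : pRegularPart p (ψ₀ : Equiv.Perm (Fin n) → ℂ) ∈ Submodule.span ℂ
      ((fun ψ : IrrCharacter (Equiv.Perm (Fin n)) => pRegularPart p (ψ : Equiv.Perm (Fin n) → ℂ)) ''
        (O : Set (IrrCharacter (Equiv.Perm (Fin n))))) := by
    obtain ⟨hinj, hsum, hw, hR⟩ := mem_charsOf.1 h₀
    set d := (betaOf ψ₀ : Fin n → ℕ) with hd
    obtain ⟨hconfR, hconfw⟩ := conf_of_mem h₀
    obtain ⟨x₀, hx₀, hlvl⟩ := Finset.exists_ne_zero_of_sum_ne_zero
      (by omega : wt p (confOf ψ₀) ≠ 0)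
    obtain ⟨z, hz, -, hzp, hgap⟩ := exists_gap_bead hp0 hx₀ hlvl
    obtain ⟨i, -, rfl⟩ := Finset.mem_image.1 hz
    change p ≤ d i at hzp
    set μ : Fin n → ℕ := fun k => d k - (if k = i then p else 0) with hμdef
    have hTd : shiftUp p μ {i} = d := by
      funext k
      simp only [shiftUp, hμdef, Finset.mem_singleton]
      split_ifs with h
      · subst h; exact Nat.sub_add_cancel hzp
      · simp
    have hμ : ∑ k, μ k + p * 1 = Fintype.card (Fin n) + ∑ k, delta n k := by
      rw [← hsum]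
      conv_rhs => rw [← hTd]
      simp [shiftUp, Finset.sum_add_distrib]
    have hrel := sum_shiftUp_eq_zero (α := Fin n) (show 2 ≤ p by omega) (Fintype.card_fin n).le
      (Nat.one_pos) hμ
    rw [← Finset.add_sum_erase _ _ (show ({i} : Finset (Fin n)) ∈ Finset.powersetCard 1 Finset.univ by
      simp [Finset.mem_powersetCard]), hTd] at hrel
    obtain ⟨ε, -, hε⟩ := pRegularPart_irr (p := p) ψ₀
    rw [hε, eq_neg_of_add_eq_zero_left hrel]
    refine Submodule.smul_mem _ _ (Submodule.neg_mem _ (Submodule.sum_mem _ fun S hS => ?_))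
    obtain ⟨hSi, hS⟩ := Finset.mem_erase.1 hS
    obtain ⟨j, rfl⟩ := Finset.card_eq_one.1 (Finset.mem_powersetCard.1 hS).2
    have hji : j ≠ i := fun h => hSi (by rw [h])
    set d' := shiftUp p μ {j} with hd'
    by_cases hd'i : Function.Injective d'
    swap
    · rw [regPart_eq_zero hd'i]; exact Submodule.zero_mem _
    have hval : ∀ k, d' k + (if k = i then p else 0) = d k + (if k = j then p else 0) := fun k => by
      simp only [hd', shiftUp, hμdef, Finset.mem_singleton]
      by_cases h : k = i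
      · subst h; simp only [if_pos]; omega
      · simp only [if_neg h]; omega
    have hres : res p d' = res p d := funext fun k => by
      have hmod : ∀ (x : ℕ) (c : Prop) [Decidable c], (x + if c then p else 0) % p = x % p :=
        fun x c _ => by
          split_ifs
          · exact Nat.add_mod_right x p
          · simp
      simp only [res]
      rw [← hmod (d' k) (k = i), hval, hmod]
    have hsum' : ∑ k, d' k = Fintype.card (Fin n) + ∑ k, delta n k := by
      rw [← hμ]
      simp [hd', shiftUp, Finset.sum_add_distrib]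
    set π := Tuple.sort d'
    have hmono : StrictMono (d' ∘ π) :=
      (Tuple.monotone_sort d').strictMono_of_injective (hd'i.comp π.injective)
    let c : Beta n (Fintype.card (Fin n)) := ⟨d' ∘ π, hmono, by rw [← hsum']; exact Equiv.sum_comp π d'⟩
    have hconf : confOf (irrOf c) = Finset.univ.image d' := by
      rw [confOf, betaOf_irrOf]
      ext x
      simp only [Finset.mem_image, Finset.mem_univ, true_and, c, Function.comp_apply]
      exact ⟨fun ⟨k, h⟩ => ⟨π k, h⟩, fun ⟨k, h⟩ => ⟨π.symm k, by rw [Equiv.apply_symm_apply]; exact h⟩⟩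
    have hcO : irrOf c ∈ O := by
      refine Finset.mem_erase.2 ⟨fun h => ?_, mem_charsOf_of_res h₀ ?_⟩
      · have h2 : d i ∈ Finset.univ.image d' := by
          rw [← hconf, h]
          exact hz
        obtain ⟨k, -, hk⟩ := Finset.mem_image.1 h2
        have hk' := hval k
        by_cases hki : k = i
        · subst hki
          rw [if_pos rfl, if_neg (Ne.symm hji)] at hk'
          omega
        · rw [if_neg hki, add_zero, hk] at hk'
          by_cases hkj : k = j
          · rw [if_pos hkj] at hk'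
            exact hgap (Finset.mem_image.2 ⟨k, Finset.mem_univ k, by change d k = d i - p; omega⟩)
          · rw [if_neg hkj, add_zero] at hk'
            exact hki (hinj hk'.symm)
      · rw [hconf, Finset.image_val_of_injOn hd'i.injOn, Multiset.map_map]
        show (Finset.univ : Finset (Fin n)).val.map (res p d') = R
        rw [hres]; exact hR
    obtain ⟨η, hη, hηeq⟩ := pRegularPart_irr (p := p) (irrOf c)
    rw [betaOf_irrOf] at hηeq
    have hcomp := regPart_comp (α := Fin n) (p := p) d' π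
    change pRegularPart p (irrOf c : Equiv.Perm (Fin n) → ℂ) = η • regPart p (d' ∘ π) at hηeq
    rw [hcomp, smul_smul] at hηeq
    have hne : η * ((Equiv.Perm.sign π : ℤ) : ℂ) ≠ 0 := by
      refine mul_ne_zero (by rcases hη with rfl | rfl <;> norm_num) ?_
      rcases Int.units_eq_one_or (Equiv.Perm.sign π) with h | h <;> simp [h]
    rw [← inv_smul_smul₀ hne (regPart p d'), ← hηeq]
    exact Submodule.smul_mem _ _ (Submodule.subset_span ⟨irrOf c, hcO, rfl⟩)
  have hle : Submodule.span ℂ (resReg p '' (K : Set (IrrCharacter (Equiv.Perm (Fin n))))) ≤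
      Submodule.span ℂ ((O.image (resReg p) : Finset _) : Set ((alternatingGroup (Fin n)) → ℂ)) := by
    rw [Submodule.span_le]
    rintro _ ⟨ψ, hψ, rfl⟩
    rcases eq_or_ne ψ ψ₀ with rfl | hne
    · have h := Submodule.mem_map_of_mem
        (f := LinearMap.funLeft ℂ ℂ (Subtype.val : (alternatingGroup (Fin n)) → Equiv.Perm (Fin n))) hsave
      rw [Submodule.map_span, ← Set.image_comp] at h
      rw [Finset.coe_image]
      exact h
    · exact Submodule.subset_span (Finset.mem_coe.2 (Finset.mem_image.2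
        ⟨ψ, Finset.mem_erase.2 ⟨hne, hψ⟩, rfl⟩))
  have h1 := (Submodule.finrank_mono hle).trans (finrank_span_finset_le_card _)
  omega

include hidx in
open Classical in
/-- Weight zero in characteristic two gives defect zero. -/
theorem defect_eq_bot_of_weight_zero [Fact p.Prime] {M : Ideal AlgInt} [M.IsPrime]
    (hM : IsPModular p M) (hp2 : p = 2)
    {B : Set (IrrCharacter (alternatingGroup (Fin n)))} (hB : IsPBlock M B)
    {D : Subgroup (alternatingGroup (Fin n))} (hD : IsDefectGroup p M B D)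
    {χ₀ : IrrCharacter (alternatingGroup (Fin n))} (hχ₀ : χ₀ ∈ B)
    {ψ₀ : IrrCharacter (Equiv.Perm (Fin n))}
    (hψ₀ : classInner (fun h : alternatingGroup (Fin n) => (ψ₀ : Equiv.Perm (Fin n) → ℂ) h)
      (χ₀ : alternatingGroup (Fin n) → ℂ) ≠ 0) (hw : weight p (betaOf ψ₀ : Fin n → ℕ) = 0) :
    D = ⊥ := by
  subst hp2
  haveI := Subgroup.normal_of_index_eq_two hidx
  have hsingle : ∀ φ : IrrCharacter (Equiv.Perm (Fin n)), SameBlock M (ψ₀ : Equiv.Perm (Fin n) → ℂ) (φ : Equiv.Perm (Fin n) → ℂ) → φ = ψ₀ := by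
    intro φ h
    obtain ⟨h1, h2⟩ := conf_of_mem (mem_charsOf_of_sameBlock hM h)
    obtain ⟨h3, h4⟩ := conf_of_mem (mem_charsOf_of_sameBlock hM (H20.sameBlock_refl (M := M)
      (ψ₀ : Equiv.Perm (Fin n) → ℂ)))
    rw [hw] at h2 h4
    exact confOf_injective (eq_of_wt_zero (by omega) (h1.trans h3.symm) h2 h4)
  have hblock : blockOf M (ψ₀ : Equiv.Perm (Fin n) → ℂ) = {ψ₀} := by
    ext φ
    exact ⟨fun h => hsingle φ h, fun h => by rw [Set.mem_singleton_iff.1 h]; exact H20.mem_blockOf_self ψ₀⟩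
  have hvan : ∀ y : Equiv.Perm (Fin n), 2 ∣ orderOf y → (ψ₀ : Equiv.Perm (Fin n) → ℂ) y = 0 := by
    intro y hy
    have h := H20.singVanish_block hM (H20.isPBlock_blockOf (M := M) ψ₀) 1 y
      (by rw [orderOf_one]; decide) hy
    rw [hblock, finsum_mem_singleton, mul_eq_zero] at h
    rcases h with h | h
    · exact absurd h (H12.irr_apply_one_ne_zero ψ₀)
    · exact (map_eq_zero _).1 h
  let P : Sylow 2 (Equiv.Perm (Fin n)) := default
  have hdvd : 2 ^ (Nat.card (Equiv.Perm (Fin n))).factorization 2 ∣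
      H12.degree (ψ₀ : Equiv.Perm (Fin n) → ℂ) := by
    haveI : Fintype (P : Subgroup (Equiv.Perm (Fin n))) := Fintype.ofFinite _
    obtain ⟨k, hk⟩ := H12.IsCharacter.classInner_nat
      (H12.IsCharacter.res (H12.isCharacter_irr ψ₀) (P : Subgroup (Equiv.Perm (Fin n))))
      H12.isCharacter_one
    rw [H12.classInner_def, Finset.sum_eq_single 1] at hk
    · rw [OneMemClass.coe_one, map_one, mul_one, H12.irr_apply_one,
        inv_mul_eq_iff_eq_mul₀ (by exact_mod_cast Nat.card_pos.ne'), ← Nat.cast_mul, Nat.cast_inj] at hk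
      rw [hk, ← P.card_eq_multiplicity]
      exact dvd_mul_right _ _
    · intro u _ hu
      rw [hvan (u : Equiv.Perm (Fin n)), zero_mul]
      obtain ⟨k, hk⟩ := IsPGroup.iff_orderOf.1 P.isPGroup' u
      rw [Subgroup.orderOf_coe, hk]
      refine dvd_pow_self 2 fun h0 => hu ?_
      rw [h0, pow_zero] at hk
      exact orderOf_eq_one_iff.1 hk
    · simp
  have hvH : (Nat.card (Equiv.Perm (Fin n))).factorization 2 = (Nat.card (alternatingGroup (Fin n))).factorization 2 + 1 := by
    rw [← two_mul_card (alternatingGroup (Fin n)) hidx, Nat.factorization_mul (by omega) Nat.card_pos.ne', Finsupp.add_apply,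
      Nat.Prime.factorization_self Nat.prime_two, add_comm]
  have hall : ∀ χ ∈ B, (Nat.card (alternatingGroup (Fin n))).factorization 2 ≤ (H12.degree (χ : (alternatingGroup (Fin n)) → ℂ)).factorization 2 := by
    intro χ hχ
    obtain ⟨ψ, hψ⟩ := exists_above (alternatingGroup (Fin n)) hidx χ
    have hdeg : H12.degree (ψ : Equiv.Perm (Fin n) → ℂ) = H12.degree (ψ₀ : Equiv.Perm (Fin n) → ℂ) := by
      rcases sameBlock_or_twist (alternatingGroup (Fin n)) hidx hψ₀ hψ (H20.sameBlock_of_mem hB hχ₀ hχ) with h | h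
      · rw [hsingle ψ h]
      · have hψ' : twistSgn (alternatingGroup (Fin n)) hidx ψ = ψ₀ := by
          refine hsingle _ ?_
          rw [H20.sameBlock_iff] at h ⊢
          intro g
          have hg := h g
          by_cases hgH : g ∈ (alternatingGroup (Fin n))
          · rw [(lam_twistSgn (alternatingGroup (Fin n)) hidx _ g).1 hgH] at hg ⊢
            exact hg
          · rw [(lam_twistSgn (alternatingGroup (Fin n)) hidx _ g).2 hgH] at hg ⊢
            rw [← hg, neg_neg]
        rw [← hψ']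
        unfold H12.degree
        rw [twistSgn_apply, map_one, Units.val_one, one_mul]
    obtain ⟨c, hc, hceq⟩ := exists_degree_mul (alternatingGroup (Fin n)) hidx hψ
    rw [← hdeg, hceq] at hdvd
    have hdpos := H12.irr_degree_pos χ
    have hcpos : c ≠ 0 := by rintro rfl; simp at hc
    have h1 := (Nat.Prime.pow_dvd_iff_le_factorization Nat.prime_two
      (mul_ne_zero hcpos hdpos.ne')).1 hdvd
    rw [Nat.factorization_mul hcpos hdpos.ne', Finsupp.add_apply, hvH] at h1
    have h2 : c.factorization 2 ≤ 1 := by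
      rcases (Nat.dvd_prime Nat.prime_two).1 hc with rfl | rfl
      · simp
      · rw [Nat.Prime.factorization_self Nat.prime_two]
    omega
  have hdef : blockDefect 2 B = 0 := by
    rw [blockDefect, Nat.sub_eq_zero_iff_le]
    obtain ⟨χ, hχ⟩ := H20.block_nonempty hB
    refine le_csInf ⟨_, Set.mem_image_of_mem _ hχ⟩ ?_
    rintro _ ⟨θ, hθ, rfl⟩
    exact hall θ hθ
  exact Subgroup.card_eq_one.1 (by rw [H20.card_defectGroup hM hB hD, hdef, pow_zero])

include hidx in
/-- The bound for an alternating group. -/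
theorem blockRank_lt [Fact p.Prime] {M : Ideal AlgInt} [M.IsPrime] (hM : IsPModular p M)
    {B : Set (IrrCharacter (alternatingGroup (Fin n)))} (hB : IsPBlock M B)
    {D : Subgroup (alternatingGroup (Fin n))} (hD : IsDefectGroup p M B D) (hD1 : D ≠ ⊥) {s : ℕ}
    (hs : SectionalPRankLE p s D) : blockRank p B < p ^ s := by
  classical
  have hp := (Fact.out (p := p.Prime))
  haveI := Subgroup.normal_of_index_eq_two hidx
  have hn : 2 ≤ n := by
    by_contra h
    haveI : Subsingleton (Fin n) := Fin.subsingleton_iff_le_one.2 (by omega)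
    rw [alternatingGroup.index_eq_one] at hidx
    omega
  obtain ⟨χ₀, hχ₀⟩ := H20.block_nonempty hB
  obtain ⟨ψ₀, hψ₀⟩ := exists_above (alternatingGroup (Fin n)) hidx χ₀
  set w := weight p (betaOf ψ₀ : Fin n → ℕ) with hw
  set R := (Finset.univ : Finset (Fin n)).val.map (res p (betaOf ψ₀ : Fin n → ℕ)) with hR
  have hbound := blockRank_le hidx hM hB hχ₀ hψ₀ hw hR
  have hs1 : 1 ≤ s := by
    obtain ⟨k, hk⟩ := IsPGroup.iff_card.1 (H20.IsDefectGroup.isPGroup hD)
    have hk0 : k ≠ 0 := by
      rintro rfl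
      rw [pow_zero] at hk
      exact hD1 (Subgroup.card_eq_one.1 hk)
    obtain ⟨d, hd⟩ := exists_prime_orderOf_dvd_card' (G := D) p (hk ▸ dvd_pow_self p hk0)
    refine le_rank_of_subgroup hs (Subgroup.zpowers d) (fun a ha b hb => ?_) (fun a ha => ?_) ?_
    · obtain ⟨i, rfl⟩ := Subgroup.mem_zpowers_iff.1 ha
      obtain ⟨j, rfl⟩ := Subgroup.mem_zpowers_iff.1 hb
      rw [← zpow_add, ← zpow_add, add_comm]
    · obtain ⟨i, rfl⟩ := Subgroup.mem_zpowers_iff.1 ha
      rw [← zpow_natCast, ← zpow_mul, mul_comm, zpow_mul, zpow_natCast, ← hd, pow_orderOf_eq_one,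
        one_zpow]
    · rw [Nat.card_zpowers, hd, pow_one]
  have hrs : (if p = 2 then 2 * (w / 2) else w) ≤ s := by
    obtain ⟨g, m, e, hg, hcomm⟩ := exists_class_fixing hM (H20.isPBlock_blockOf (M := M) ψ₀)
      (b := betaOf ψ₀) (by rw [irrOf_betaOf]; exact H20.mem_blockOf_self ψ₀)
    obtain ⟨r, A, hr, hA, hsgn, hAc, hAp, hAcard⟩ := exists_even_elementary w p
    rw [← hr]
    let Φ : Equiv.Perm (Fin w × Fin p) →* Equiv.Perm (Fin n) :=
      (e.permCongrHom.toMonoidHom.comp (Equiv.Perm.sumCongrHom (Fin w × Fin p) (Fin m))).comp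
        (MonoidHom.inl _ _)
    have hΦ : ∀ σ, Φ σ = e.permCongr (Equiv.sumCongr σ 1) := fun _ => rfl
    have hΦinj : Function.Injective Φ := e.permCongrHom.injective.comp
      (Equiv.Perm.sumCongrHom_injective.comp fun a b h => congrArg Prod.fst h)
    obtain ⟨f, hf⟩ := exists_embedding (alternatingGroup (Fin n)) hidx hM hB hD hχ₀ hψ₀ hg (E := A.map Φ) (hA.map Φ)
      (by
        rintro _ ⟨a, ha, rfl⟩
        rw [Equiv.Perm.mem_alternatingGroup, hΦ, Equiv.Perm.sign_permCongr, Equiv.Perm.sign_sumCongr,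
          hsgn a ha, map_one, mul_one])
      (by
        rintro _ ⟨a, -, rfl⟩
        rw [hΦ]
        exact (hcomm a).symm)
    refine le_rank_of_subgroup hs f.range (fun a ha b hb => ?_) (fun a ha => ?_) ?_
    · obtain ⟨⟨_, a, ha', rfl⟩, rfl⟩ := ha
      obtain ⟨⟨_, b, hb', rfl⟩, rfl⟩ := hb
      rw [← map_mul, ← map_mul]
      exact congrArg f (Subtype.ext (by
        show Φ a * Φ b = Φ b * Φ a
        rw [← map_mul, ← map_mul, hAc a ha' b hb']))
    · obtain ⟨⟨_, a, ha', rfl⟩, rfl⟩ := ha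
      rw [← map_pow, show (⟨Φ a, Subgroup.mem_map_of_mem Φ ha'⟩ : A.map Φ) ^ p = 1 from
        Subtype.ext (show Φ a ^ p = 1 by rw [← map_pow, hAp a ha', map_one]), map_one]
    · rw [← Nat.card_congr (MonoidHom.ofInjective hf).toEquiv,
        Subgroup.card_map_of_injective hΦinj, hAcard]
  have hpar : (2 * n - 1) % 2 = 1 := by omega
  by_cases hp2 : p = 2
  · subst hp2
    rw [if_pos rfl] at hrs
    rcases Nat.eq_zero_or_pos w with hw0 | hwpos
    · exact absurd (defect_eq_bot_of_weight_zero hidx hM rfl hB hD hχ₀ hψ₀ hw0) hD1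
    obtain ⟨F', hF', hF'c⟩ := exists_sc_two (M := 2 * n) hpar R w
    have ha := (card_self_le hidx hF').trans hF'c
    obtain ⟨F, hF, hFc⟩ := exists_fam (show 0 < 2 by omega) R w
    have hU := (finrank_resReg_le (n := n) (le_refl 2) hF).trans hFc
    rw [famBound, if_neg (show w ≠ 0 by omega)] at hU
    rcases Nat.mod_two_eq_zero_or_one w with hev | hodd
    · rw [scTwo, if_neg (by omega : ¬ w % 2 = 1), if_neg (by omega : ¬ w = 0)] at ha
      have h1 : 2 ^ (w / 2 - 1) < 2 ^ (w - 1) := Nat.pow_lt_pow_right (by omega) (by omega)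
      have h2 : 2 ^ w ≤ 2 ^ s := Nat.pow_le_pow_right (by omega) (by omega)
      have h3 : 2 ^ w = 2 * 2 ^ (w - 1) := by rw [← pow_succ', Nat.sub_add_cancel hwpos]
      omega
    · rw [scTwo, if_pos hodd] at ha
      rcases (show w = 1 ∨ 3 ≤ w by omega) with hw1 | hw3
      · rw [hw1] at hU ha hbound
        have : 2 ^ 1 ≤ 2 ^ s := Nat.pow_le_pow_right (by omega) hs1
        simp only [Nat.sub_self, pow_zero] at hU
        omega
      · obtain ⟨F₂, hF₂, hF₂c⟩ := exists_fam_two R (show 2 ≤ w by omega)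
        have hU2 := (finrank_resReg_le (n := n) (le_refl 2) hF₂).trans hF₂c
        have h2 : 2 ^ (w - 1) ≤ 2 ^ s := Nat.pow_le_pow_right (by omega) (by omega)
        have h3 : 2 ^ (w - 1) = 2 * 2 ^ (w - 2) := by
          rw [← pow_succ']; congr 1; omega
        have h4 : 2 ≤ 2 ^ (w - 2) := Nat.le_self_pow (by omega) 2
        omega
  · rw [if_neg hp2] at hrs
    have hp3 : 3 ≤ p := by have := hp.two_le; omega
    obtain ⟨F', hF', hF'c⟩ := exists_sc_odd hp3 ((hp.eq_two_or_odd).resolve_left hp2) (M := 2 * n) hpar R w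
    have ha := (card_self_le hidx hF').trans hF'c
    obtain ⟨F, hF, hFc⟩ := exists_fam (show 0 < p by omega) R w
    have hU := (finrank_resReg_le (n := n) (show 2 ≤ p by omega) hF).trans hFc
    have hps : p ≤ p ^ s := Nat.le_self_pow (by omega) p
    rcases (show w = 0 ∨ w = 1 ∨ 2 ≤ w by omega) with hw0 | hw1 | hw2
    · rw [hw0] at hU ha hbound
      simp only [famBound, if_pos, Nat.zero_sub, pow_zero] at hU ha
      omega
    · rw [hw1] at hU ha hbound
      simp only [famBound, one_ne_zero, if_false, Nat.sub_self, pow_zero, mul_one] at hU ha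
      rcases Finset.eq_empty_or_nonempty
        ((charsOf n p 1 R).filter fun ψ => twistSgn (alternatingGroup (Fin n)) hidx ψ = ψ) with hempty | ⟨ψ₁, hψ₁⟩
      · rw [hempty, Finset.card_empty, add_zero] at hbound
        omega
      · obtain ⟨hmem, hself⟩ := Finset.mem_filter.1 hψ₁
        have hsave := weight_one_bound hidx hp3 R hmem hself ha
        omega
    · rw [famBound, if_neg (by omega)] at hU
      have h1 : ((p + 1) / 2) ^ (w - 1) < p ^ (w - 1) := Nat.pow_lt_pow_left (by omega) (by omega)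
      have h2 : p ^ w ≤ p ^ s := Nat.pow_le_pow_right (by omega) hrs
      have h3 : p ^ w = (p - 1) * p ^ (w - 1) + p ^ (w - 1) := by
        conv_rhs => rw [← Nat.succ_mul, Nat.succ_eq_add_one, Nat.sub_add_cancel (show 1 ≤ p by omega)]
        rw [← pow_succ', Nat.sub_add_cancel (show 1 ≤ w by omega)]
      omega

end H18.AltBlock
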