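import Cfsg.Agent.H18.SymBlock.Core

/-!
# The sign twist of an irreducible character of a symmetric group reflects the exponent set
-/

set_option autoImplicit false
set_option linter.unusedSectionVars false
set_option linter.style.haveILetI false

open Cfsg Finset H18.SymBlock

namespace H18.AltBlock

universe u

/-- Reflection of the complement inside `[0, L)`. -/
def refl' (L : ℕ) (S : Finset ℕ) : Finset ℕ := {x ∈ Finset.range L | L - 1 - x ∉ S}

variable {α : Type u} [Fintype α] [DecidableEq α]

theorem numOrb_add (g : Equiv.Perm α) :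
    numOrb g + #g.support = Multiset.card g.cycleType + Fintype.card α := by
  classical
  have hcard : numOrb g = Nat.card ({c // c ∈ g.cycleFactorsFinset} ⊕ {a // g a = a}) := by
    let F : α → {c // c ∈ g.cycleFactorsFinset} ⊕ {a // g a = a} := fun a =>
      if h : g a = a then Sum.inr ⟨a, h⟩
      else Sum.inl ⟨g.cycleOf a, Equiv.Perm.cycleOf_mem_cycleFactorsFinset_iff.2
        (Equiv.Perm.mem_support.2 h)⟩
    have hF : ∀ a b, g.SameCycle a b → F a = F b := by
      intro a b h
      simp only [F]
      by_cases ha : g a = a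
      · have hab : b = a := by
          obtain ⟨i, rfl⟩ := h
          exact Equiv.Perm.zpow_apply_eq_self_of_apply_eq_self ha i
        subst hab
        rw [dif_pos ha]
      · rw [dif_neg ha, dif_neg fun hb => ha (h.apply_eq_self_iff.2 hb)]
        exact congrArg Sum.inl (Subtype.ext h.cycleOf_eq)
    refine Nat.card_congr (Equiv.ofBijective (Quotient.lift F hF) ⟨?_, ?_⟩)
    · intro x y
      induction x using Quotient.inductionOn with
      | h a =>
        induction y using Quotient.inductionOn with
        | h b =>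
          intro hab
          apply Quotient.sound
          simp only [Quotient.lift_mk, F] at hab
          show g.SameCycle a b
          by_cases ha : g a = a <;> by_cases hb : g b = b
          · rw [dif_pos ha, dif_pos hb] at hab
            simp only [Sum.inr.injEq, Subtype.mk.injEq] at hab
            subst hab
            exact Equiv.Perm.SameCycle.refl g a
          · rw [dif_pos ha, dif_neg hb] at hab
            simp at hab
          · rw [dif_neg ha, dif_pos hb] at hab
            simp at hab
          · rw [dif_neg ha, dif_neg hb] at hab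
            simp only [Sum.inl.injEq, Subtype.mk.injEq] at hab
            have hb' : b ∈ (g.cycleOf a).support := by
              rw [hab]
              exact Equiv.Perm.mem_support_cycleOf_iff.2
                ⟨Equiv.Perm.SameCycle.refl g b, Equiv.Perm.mem_support.2 hb⟩
            exact (Equiv.Perm.mem_support_cycleOf_iff.1 hb').1
    · rintro (⟨c, hc⟩ | ⟨a, ha⟩)
      · obtain ⟨hcyc, hc'⟩ := Equiv.Perm.mem_cycleFactorsFinset_iff.1 hc
        obtain ⟨a, ha⟩ := hcyc.nonempty_support
        have hga : g a ≠ a := by
          rw [← hc' a ha]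
          exact Equiv.Perm.mem_support.1 ha
        refine ⟨Quotient.mk _ a, ?_⟩
        simp only [Quotient.lift_mk, F, dif_neg hga, Sum.inl.injEq, Subtype.mk.injEq]
        exact (Equiv.Perm.cycle_is_cycleOf ha hc).symm
      · exact ⟨Quotient.mk _ a, by simp only [Quotient.lift_mk, F, dif_pos ha]⟩
  rw [hcard, Nat.card_sum, Nat.card_eq_fintype_card, Nat.card_eq_fintype_card, Fintype.card_coe,
    Fintype.card_subtype, Equiv.Perm.cycleType_def, Multiset.card_map, add_assoc]
  congr 1
  have h := Finset.card_filter_add_card_filter_not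
    (s := (Finset.univ : Finset α)) (fun a => g a = a)
  rw [Finset.card_univ] at h
  exact h

theorem sign_eq_neg_one_pow (g : Equiv.Perm α) :
    ((Equiv.Perm.sign g : ℤ) : ℂ) = (-1) ^ (Fintype.card α + numOrb g) := by
  have hs : ((Equiv.Perm.sign g : ℤ) : ℂ) = (-1) ^ (g.cycleType.sum + Multiset.card g.cycleType) := by
    rw [Equiv.Perm.sign_of_cycleType]
    push_cast
    norm_num
  rw [hs, Equiv.Perm.sum_cycleType]
  have h := numOrb_add g
  rw [show Fintype.card α + numOrb g = numOrb g + Fintype.card α from add_comm _ _]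
  rw [neg_one_pow_eq_pow_mod_two, neg_one_pow_eq_pow_mod_two (n := numOrb g + Fintype.card α)]
  congr 1
  omega

variable {n : ℕ}

theorem beta_lt {m : ℕ} {b : Fin n → ℕ} (hb : IsBeta m b) (i : Fin n) : b i < m + n := by
  have h1 : ∀ j : Fin n, (j : ℕ) ≤ b j := fun j => le_of_strictMono hb.1 j
  have h2 := Finset.single_le_sum (f := fun j => b j - (j : ℕ)) (fun _ _ => Nat.zero_le _)
    (Finset.mem_univ i)
  have h3 : ∑ j, (b j - (j : ℕ)) + ∑ j, delta n j = ∑ j, b j := by
    rw [← Finset.sum_add_distrib]
    exact Finset.sum_congr rfl fun j _ => Nat.sub_add_cancel (h1 j)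
  rw [hb.2] at h3
  have := i.2
  have := h1 i
  omega

theorem prod_comp_neg_X {K : Type*} [CommRing K] (s : Multiset K) :
    Polynomial.C ((-1 : K) ^ Multiset.card s) *
        ((s.map fun a => Polynomial.X - Polynomial.C a).prod).comp (-Polynomial.X) =
      (s.map fun a => Polynomial.X - Polynomial.C (-a)).prod := by
  induction s using Multiset.induction with
  | empty => simp
  | cons a s ih =>
    simp only [Multiset.map_cons, Multiset.prod_cons, Multiset.card_cons, Polynomial.mul_comp,
      Polynomial.sub_comp, Polynomial.X_comp, Polynomial.C_comp, pow_succ, map_mul, ← ih]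
    simp only [map_neg, map_one]
    ring

/-- The twisted character belongs to the reflected complement. -/
theorem image_of_twist {b c : Beta n (Fintype.card (Fin n))}
    (h : ∀ g : Equiv.Perm (Fin n), (irrOf c : Equiv.Perm (Fin n) → ℂ) g =
      ((Equiv.Perm.sign g : ℤ) : ℂ) * (irrOf b : Equiv.Perm (Fin n) → ℂ) g) :
    Finset.univ.image (c : Fin n → ℕ) =
      refl' (2 * n) (Finset.univ.image (b : Fin n → ℕ)) := by
  classical
  obtain ⟨p, hpn, hp⟩ := Nat.exists_infinite_primes (2 * n + 2)
  haveI : Fact p.Prime := ⟨hp⟩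
  have hcoeff : ∀ m, (contentPoly n (c : Fin n → ℕ)).coeff m =
      (-1) ^ (n + m) * (contentPoly n (b : Fin n → ℕ)).coeff m := by
    intro m
    have key : (((contentPoly n (c : Fin n → ℕ)).coeff m : ℤ) : ℂ) =
        ((((-1) ^ (n + m) * (contentPoly n (b : Fin n → ℕ)).coeff m : ℤ)) : ℂ) := by
      push_cast
      rw [coeff_contentPoly c.2, coeff_contentPoly b.2, Finset.mul_sum]
      refine Finset.sum_congr rfl fun g _ => ?_
      by_cases hm : numOrb g = m
      · obtain ⟨ε, hε, hb⟩ := irrOf_spec b
        obtain ⟨η, hη, hc⟩ := irrOf_spec c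
        have hg := h g
        have h1 := h 1
        simp only [hb, hc, Pi.smul_apply, smul_eq_mul, map_one, Units.val_one, Int.cast_one,
          one_mul] at hg h1
        rw [sign_eq_neg_one_pow, show Fintype.card (Fin n) + numOrb g = n + numOrb g by rw [Fintype.card_fin], hm] at hg
        rw [if_pos hm, if_pos hm]
        have hε0 : ε ≠ 0 := by rcases hε with rfl | rfl <;> norm_num
        have hη0 : η ≠ 0 := by rcases hη with rfl | rfl <;> norm_num
        rw [← mul_div_mul_left _ _ hη0, hg, h1]
        field_simp
      · rw [if_neg hm, if_neg hm, mul_zero]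
    exact_mod_cast key
  set φ := Int.castRingHom (ZMod p)
  have hprod : ∀ d : Fin n → ℕ, (contentPoly n d).map φ =
      ((resid p d).map fun x => Polynomial.X - Polynomial.C ((n : ZMod p) - x)).prod := by
    intro d
    rw [contentPoly, Polynomial.map_prod, resid, ← Multiset.coe_mapAddMonoidHom, map_sum]
    rw [show (∑ x : Fin n, (Multiset.mapAddMonoidHom fun x => Polynomial.X - Polynomial.C ((n : ZMod p) - x))
      ((Finset.Ioc (x : ℕ) (d x)).val.map fun k : ℕ => (k : ZMod p))).prod = ∏ x : Fin n,
      ((Multiset.mapAddMonoidHom fun x => Polynomial.X - Polynomial.C ((n : ZMod p) - x))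
      ((Finset.Ioc (x : ℕ) (d x)).val.map fun k : ℕ => (k : ZMod p))).prod from Multiset.prod_sum _ _]
    refine Finset.prod_congr rfl fun i _ => ?_
    rw [Multiset.coe_mapAddMonoidHom, Multiset.map_map, Polynomial.map_prod, Finset.prod_eq_multiset_prod]
    congr 1
    refine Multiset.map_congr rfl fun k _ => ?_
    simp only [φ, Function.comp_apply, Polynomial.map_add, Polynomial.map_X, eq_intCast]
    push_cast
    simp
    ring
  have hmm : ∀ (s : Multiset (ZMod p)) (f : ZMod p → ZMod p),
      (s.map fun x => Polynomial.X - Polynomial.C (f x)) =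
        (s.map f).map fun a => Polynomial.X - Polynomial.C a := fun s f => by
    rw [Multiset.map_map]; rfl
  have hcard : Multiset.card (resid p (b : Fin n → ℕ)) = n := by
    have h1 := congrArg Polynomial.natDegree (hprod (b : Fin n → ℕ))
    rw [(contentPoly_monic _).natDegree_map, contentPoly_natDegree b.2, hmm _ (fun x => (n : ZMod p) - x),
      Polynomial.natDegree_multiset_prod_X_sub_C_eq_card, Multiset.card_map] at h1
    exact h1.symm.trans (Fintype.card_fin n)
  have hpoly : (contentPoly n (c : Fin n → ℕ)).map φ =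
      Polynomial.C ((-1 : ZMod p) ^ n) * ((contentPoly n (b : Fin n → ℕ)).map φ).comp (-Polynomial.X) := by
    ext m
    rw [Polynomial.coeff_C_mul, show (-Polynomial.X : Polynomial (ZMod p)) = Polynomial.C (-1) * Polynomial.X by
      simp, Polynomial.comp_C_mul_X_coeff, Polynomial.coeff_map, Polynomial.coeff_map, hcoeff]
    simp only [φ, eq_intCast, Int.cast_mul, Int.cast_pow, Int.cast_neg, Int.cast_one, pow_add]
    ring
  have hres : resid p (c : Fin n → ℕ) =
      (resid p (b : Fin n → ℕ)).map fun x : ZMod p => ((2 * n : ℕ) : ZMod p) - x := by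
    rw [hprod, hprod, hmm _ (fun x => (n : ZMod p) - x), hmm _ (fun x => (n : ZMod p) - x)] at hpoly
    have h2 := prod_comp_neg_X ((resid p (b : Fin n → ℕ)).map fun x => (n : ZMod p) - x)
    rw [Multiset.card_map, hcard] at h2
    rw [h2, hmm _ (fun x => -x)] at hpoly
    have h3 := congrArg Polynomial.roots hpoly
    rw [Polynomial.roots_multiset_prod_X_sub_C, Polynomial.roots_multiset_prod_X_sub_C] at h3
    refine Multiset.map_injective (sub_right_injective (b := (n : ZMod p))) ?_
    rw [h3, Multiset.map_map, Multiset.map_map]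
    refine Multiset.map_congr rfl fun x _ => ?_
    simp only [Function.comp_apply]
    push_cast
    ring
  have h1 := congrArg (Multiset.map fun x : ZMod p => ((2 * n : ℕ) : ZMod p) - x + 1)
    (resid_shift (p := p) b.2.1)
  have h2 := resid_shift (p := p) c.2.1
  rw [hres, Multiset.map_map] at h2
  simp only [Multiset.map_add, Multiset.map_map, cls, Function.comp_def] at h1 h2
  have hadd := congrArg₂ (· + ·) h1 h2
  have hT : (Finset.range (2 * n)).val.map (fun x : ℕ => (x : ZMod p) + 1) =
      ((Finset.univ : Finset (Fin n)).val.map fun i => ((2 * n : ℕ) : ZMod p) - ((delta n i : ℕ) + 1) + 1) +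
        (Finset.univ : Finset (Fin n)).val.map fun i => ((delta n i : ℕ) : ZMod p) + 1 := by
    have hsplit : Finset.range (2 * n) =
        (Finset.univ.image fun i : Fin n => 2 * n - 1 - (i : ℕ)) ∪
          Finset.univ.image fun i : Fin n => (i : ℕ) := by
      ext x
      simp only [Finset.mem_range, Finset.mem_union, Finset.mem_image, Finset.mem_univ, true_and]
      constructor
      · intro hx
        by_cases hxn : x < n
        · exact Or.inr ⟨⟨x, hxn⟩, rfl⟩
        · exact Or.inl ⟨⟨2 * n - 1 - x, by omega⟩, by simp; omega⟩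
      · rintro (⟨i, rfl⟩ | ⟨i, rfl⟩) <;> omega
    have hdis : Disjoint (Finset.univ.image fun i : Fin n => 2 * n - 1 - (i : ℕ))
        (Finset.univ.image fun i : Fin n => (i : ℕ)) := by
      simp only [Finset.disjoint_left, Finset.mem_image, Finset.mem_univ, true_and]
      rintro _ ⟨i, rfl⟩ ⟨j, hj⟩
      have := i.2
      have := j.2
      omega
    rw [hsplit, ← Finset.disjUnion_eq_union _ _ hdis, Finset.disjUnion_val, Multiset.map_add,
      Finset.image_val_of_injOn (fun i _ j _ hij => Fin.ext (by
        have := i.2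
        have := j.2
        replace hij : 2 * n - 1 - (i : ℕ) = 2 * n - 1 - (j : ℕ) := hij
        omega)),
      Finset.image_val_of_injOn (fun i _ j _ hij => Fin.ext hij), Multiset.map_map, Multiset.map_map]
    congr 1
    refine Multiset.map_congr rfl fun i _ => ?_
    simp only [Function.comp_apply, delta]
    have := i.2
    rw [Nat.cast_sub (show (i : ℕ) ≤ 2 * n - 1 by omega), Nat.cast_sub (show 1 ≤ 2 * n by omega)]
    push_cast
    ring
  have hmain : ((Finset.univ : Finset (Fin n)).val.map fun i => ((2 * n : ℕ) : ZMod p) -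
      (((b : Fin n → ℕ) i : ZMod p) + 1) + 1) +
      ((Finset.univ : Finset (Fin n)).val.map fun i => ((c : Fin n → ℕ) i : ZMod p) + 1) =
      (Finset.range (2 * n)).val.map (fun x : ℕ => (x : ZMod p) + 1) := by
    rw [hT]
    have e1 : (resid p (b : Fin n → ℕ)).map (fun x => ((2 * n : ℕ) : ZMod p) - (x + 1) + 1) =
        (resid p (b : Fin n → ℕ)).map fun x => ((2 * n : ℕ) : ZMod p) - x :=
      Multiset.map_congr rfl fun x _ => by ring
    rw [e1] at hadd
    set P := (resid p (b : Fin n → ℕ)).map fun x => ((2 * n : ℕ) : ZMod p) - x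
    set Q := (resid p (b : Fin n → ℕ)).map fun x => ((2 * n : ℕ) : ZMod p) - x + 1
    refine add_left_cancel (a := P + Q) ?_
    calc _ = Q + _ + (P + _) := by abel
      _ = _ := hadd.symm
      _ = _ := by abel
  have hmulti : ((Finset.univ : Finset (Fin n)).val.map fun i => 2 * n - 1 - (b : Fin n → ℕ) i) +
      ((Finset.univ : Finset (Fin n)).val.map fun i => (c : Fin n → ℕ) i) =
      (Finset.range (2 * n)).val := by
    have hlt : ∀ d : Beta n (Fintype.card (Fin n)), ∀ i, (d : Fin n → ℕ) i < 2 * n := fun d i => by
      have := beta_lt d.2 i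
      have := Fintype.card_fin n
      omega
    have h3 := congrArg (Multiset.map fun x : ZMod p => (x - 1).val) hmain
    simp only [Multiset.map_add, Multiset.map_map, Function.comp_def, add_sub_cancel_right] at h3
    have e2 : ∀ i, (((2 * n : ℕ) : ZMod p) - (((b : Fin n → ℕ) i : ZMod p) + 1)).val =
        2 * n - 1 - (b : Fin n → ℕ) i := fun i => by
      have := hlt b i
      rw [show ((2 * n : ℕ) : ZMod p) - (((b : Fin n → ℕ) i : ZMod p) + 1) =
        ((2 * n - 1 - (b : Fin n → ℕ) i : ℕ) : ZMod p) by
          rw [Nat.cast_sub (by omega), Nat.cast_sub (by omega)]; push_cast; ring,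
        ZMod.val_natCast, Nat.mod_eq_of_lt]
      omega
    have e3 : ∀ i, (((c : Fin n → ℕ) i : ZMod p)).val = (c : Fin n → ℕ) i := fun i => by
      rw [ZMod.val_natCast, Nat.mod_eq_of_lt]
      have := hlt c i
      omega
    have e4 : (Finset.range (2 * n)).val.map (fun x : ℕ => (x : ZMod p).val) =
        (Finset.range (2 * n)).val.map id := Multiset.map_congr rfl fun x hx => by
      rw [ZMod.val_natCast, Nat.mod_eq_of_lt]
      · rfl
      rw [Finset.mem_val, Finset.mem_range] at hx
      omega
    rw [e4, Multiset.map_id] at h3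
    simp only [e2, e3] at h3
    exact h3
  have hnd : (((Finset.univ : Finset (Fin n)).val.map fun i => 2 * n - 1 - (b : Fin n → ℕ) i) +
      ((Finset.univ : Finset (Fin n)).val.map fun i => (c : Fin n → ℕ) i)).Nodup := by
    rw [hmulti]; exact (Finset.range (2 * n)).nodup
  ext x
  have hmem : x ∈ Finset.range (2 * n) ↔
      (∃ i, 2 * n - 1 - (b : Fin n → ℕ) i = x) ∨ ∃ i, (c : Fin n → ℕ) i = x := by
    rw [← Finset.mem_val, ← hmulti]
    simp
  have hexcl : ∀ i j, 2 * n - 1 - (b : Fin n → ℕ) i ≠ (c : Fin n → ℕ) j := fun i j hij =>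
    Multiset.disjoint_left.1 (Multiset.nodup_add.1 hnd).2.2
      (Multiset.mem_map.2 ⟨i, Finset.mem_univ i, rfl⟩) (Multiset.mem_map.2 ⟨j, Finset.mem_univ j, hij.symm⟩)
  simp only [refl', Finset.mem_image, Finset.mem_univ, true_and, Finset.mem_filter]
  constructor
  · rintro ⟨j, rfl⟩
    have hx := hmem.2 (Or.inr ⟨j, rfl⟩)
    refine ⟨hx, fun hb => ?_⟩
    rw [Finset.mem_range] at hx
    obtain ⟨i, hi⟩ := hb
    exact hexcl i j (by omega)
  · rintro ⟨hx, hne⟩
    rcases hmem.1 hx with ⟨i, hi⟩ | hx'
    · exfalso
      apply hne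
      have := beta_lt b.2 i
      have := Fintype.card_fin n
      exact ⟨i, by omega⟩
    · exact hx'

end H18.AltBlock
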